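import Mathlib
import Groth.Prelude.Def_FilD

/-!
Exactness on graded pieces, exactness of filtration steps and strictness.
-/

set_option autoImplicit false

universe v u

open CategoryTheory CategoryTheory.Limits Opposite

namespace Groth.Agent.FilDLib

variable {A : Type u} [Category.{v} A] [Abelian A]

theorem π_gr_map {X Y : ℤᵒᵖ ⥤ A} (f : X ⟶ Y) (p : ℤ) :
    cokernel.π (X.map (FilD.stepHom p)) ≫ (FilD.gr A p).map f = f.app (op p) ≫ cokernel.π (Y.map (FilD.stepHom p)) :=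
  cokernel.π_desc _ _ _

theorem exact_step (Y : ℤᵒᵖ ⥤ A) (p : ℤ) :
    (ShortComplex.mk (Y.map (FilD.stepHom p)) (cokernel.π (Y.map (FilD.stepHom p))) (cokernel.condition _)).Exact :=
  ShortComplex.exact_of_g_is_cokernel _ (cokernelIsCokernel _)

section

variable (S : ShortComplex (ℤᵒᵖ ⥤ A)) (hS : ∀ p : ℤ, (S.map (FilD.gr A p)).Exact)
  (hZ : ∀ p : ℤ, Mono (S.X₃.map (FilD.stepHom p)))

include hS hZ in
/-- A section whose image lies one step deeper is, up to refinement and the image of `S.f`, one step deeper. -/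
theorem descend (p : ℤ) {W : A} (y : W ⟶ S.X₂.obj (op p)) (z : W ⟶ S.X₃.obj (op (p + 1)))
    (h : y ≫ S.g.app (op p) = z ≫ S.X₃.map (FilD.stepHom p)) :
    ∃ (W' : A) (π : W' ⟶ W) (_ : Epi π) (x : W' ⟶ S.X₁.obj (op p)) (y₁ : W' ⟶ S.X₂.obj (op (p + 1))),
      π ≫ y = x ≫ S.f.app (op p) + y₁ ≫ S.X₂.map (FilD.stepHom p) ∧ π ≫ z = y₁ ≫ S.g.app (op (p + 1)) := by
  have h0 : (y ≫ cokernel.π (S.X₂.map (FilD.stepHom p))) ≫ (S.map (FilD.gr A p)).g = 0 := by
    refine (Category.assoc _ _ _).trans ((congrArg (fun t => y ≫ t) (π_gr_map S.g p)).trans ?_)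
    exact (Category.assoc _ _ _).symm.trans ((congrArg (fun t => t ≫ cokernel.π _) h).trans ((Category.assoc _ _ _).trans ((congrArg (fun t => z ≫ t) (cokernel.condition _)).trans comp_zero)))
  obtain ⟨W₁, e₁, he₁, a, ha⟩ := (hS p).exact_up_to_refinements _ h0
  obtain ⟨W₂, e₂, he₂, x, hx⟩ := surjective_up_to_refinements_of_epi (cokernel.π (S.X₁.map (FilD.stepHom p))) a
  have h1 : ((e₂ ≫ e₁ ≫ y) - x ≫ S.f.app (op p)) ≫ cokernel.π (S.X₂.map (FilD.stepHom p)) = 0 := by
    rw [Preadditive.sub_comp, sub_eq_zero, Category.assoc, Category.assoc, Category.assoc]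
    refine (congrArg (fun t => e₂ ≫ t) ha).trans ?_
    refine (Category.assoc e₂ a _).symm.trans ((congrArg (fun t => t ≫ (S.map (FilD.gr A p)).f) hx).trans ?_)
    exact (Category.assoc _ _ _).trans (congrArg (fun t => x ≫ t) (π_gr_map S.f p))
  obtain ⟨W₃, e₃, he₃, y₁, hy₁⟩ := (exact_step S.X₂ p).exact_up_to_refinements _ h1
  have hfg : S.f.app (op p) ≫ S.g.app (op p) = 0 := by rw [← NatTrans.comp_app, S.zero, zero_app]
  have h2 : e₃ ≫ e₂ ≫ e₁ ≫ y = (e₃ ≫ x) ≫ S.f.app (op p) + y₁ ≫ S.X₂.map (FilD.stepHom p) := by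
    have := hy₁
    dsimp at this
    rw [← this, Preadditive.comp_sub, Category.assoc, add_sub_cancel]
  refine ⟨W₃, e₃ ≫ e₂ ≫ e₁, inferInstance, e₃ ≫ x, y₁, by simpa only [Category.assoc] using h2, ?_⟩
  have := hZ p
  rw [← cancel_mono (S.X₃.map (FilD.stepHom p)), Category.assoc, ← h, ← Category.assoc,
    show (e₃ ≫ e₂ ≫ e₁) ≫ y = _ from (by simpa only [Category.assoc] using h2)]
  simp only [Preadditive.add_comp, Category.assoc, hfg, comp_zero, zero_add, S.g.naturality]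

include hS hZ in
/-- A morphism with exact graded sequence reflects depth, up to refinements. -/
theorem lift (d : ℕ) : ∀ (p q : ℤ) (h : p ≤ q), q = p + d → ∀ {W : A} (z : W ⟶ S.X₃.obj (op q)) (y : W ⟶ S.X₂.obj (op p)),
    y ≫ S.g.app (op p) = z ≫ S.X₃.map (homOfLE h).op →
    ∃ (W' : A) (π : W' ⟶ W) (_ : Epi π) (y' : W' ⟶ S.X₂.obj (op q)), π ≫ z = y' ≫ S.g.app (op q) := by
  induction d with
  | zero =>
    intro p q h hq W z y hy
    obtain rfl : q = p := by simpa using hq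
    exact ⟨W, 𝟙 W, inferInstance, y, by
      rw [Category.id_comp, hy, show (homOfLE h).op = 𝟙 (op q) from rfl, S.X₃.map_id, Category.comp_id]⟩
  | succ d ih =>
    intro p q h hq W z y hy
    have h' : p + 1 ≤ q := by omega
    have hfac : (homOfLE h).op = (homOfLE h').op ≫ FilD.stepHom p := rfl
    rw [hfac, S.X₃.map_comp, ← Category.assoc] at hy
    obtain ⟨W₁, π₁, hπ₁, x, y₁, -, hy₁⟩ := descend S hS hZ p y _ hy
    obtain ⟨W₂, π₂, hπ₂, y', hy'⟩ := ih (p + 1) q h' (by push_cast at hq; omega) (π₁ ≫ z) y₁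
      (by rw [← hy₁, Category.assoc])
    exact ⟨W₂, π₂ ≫ π₁, inferInstance, y', by rw [Category.assoc, hy']⟩

include hS hZ in
/-- Exact graded pieces and eventual vanishing give exact filtration steps. -/
theorem exact_app (b : ℤ) (hb : ∀ p : ℤ, b ≤ p → IsZero (S.X₂.obj (op p))) (p : ℤ) :
    (S.map ((evaluation ℤᵒᵖ A).obj (op p))).Exact := by
  suffices main : ∀ (k : ℕ) (p : ℤ), b ≤ p + k → (S.map ((evaluation ℤᵒᵖ A).obj (op p))).Exact from
    main (b - p).toNat p (by omega)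
  intro k
  induction k with
  | zero => exact fun p hp => ShortComplex.exact_of_isZero_X₂ _ (hb p (by simpa using hp))
  | succ k ih =>
    intro p hp
    refine (ShortComplex.exact_iff_exact_up_to_refinements _).2 fun W (y : W ⟶ S.X₂.obj (op p)) hy => ?_
    obtain ⟨W₁, π₁, hπ₁, x, y₁, hxy, hy₁⟩ := descend S hS hZ p y 0 (hy.trans zero_comp.symm)
    obtain ⟨W₂, π₂, hπ₂, (x₁ : W₂ ⟶ S.X₁.obj (op (p + 1))), hx₁⟩ := (ih (p + 1) (by push_cast at hp ⊢; omega)).exact_up_to_refinements y₁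
      (hy₁.symm.trans comp_zero)
    refine ⟨W₂, π₂ ≫ π₁, inferInstance, π₂ ≫ x + x₁ ≫ S.X₁.map (FilD.stepHom p), ?_⟩
    change (π₂ ≫ π₁) ≫ y = _ ≫ S.f.app (op p)
    rw [Category.assoc, hxy, Preadditive.comp_add, Preadditive.add_comp, Category.assoc, Category.assoc, S.f.naturality]
    exact congrArg₂ (· + ·) rfl ((Category.assoc _ _ _).symm.trans ((congrArg (fun t => t ≫ S.X₂.map (FilD.stepHom p)) hx₁).trans (Category.assoc _ _ _)))

end

theorem factors_of_epi {X W W' : A} {P : Subobject X} {T : W ⟶ X} (ρ : W' ⟶ W) [Epi ρ] (h : P.Factors (ρ ≫ T)) :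
    P.Factors T := by
  have := strongEpi_of_epi ρ
  have sq : CommSq (P.factorThru _ h) ρ P.arrow T := ⟨P.factorThru_arrow _ h⟩
  exact Subobject.factors_of_factors_right _ (Subobject.factors_self P) |> fun h' => sq.fac_right ▸ h'

variable {F G : FilD.FilF A} (φ : F ⟶ G)

/-- Strictness, elementwise up to refinements. -/
theorem isStrict_iff : FilD.IsStrict φ ↔ ∀ (p q : ℤ) (h : p ≤ q) {W : A} (z : W ⟶ G.obj.obj (op q))
    (y : W ⟶ F.obj.obj (op p)), y ≫ φ.hom.app (op p) = z ≫ G.obj.map (homOfLE h).op →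
    ∃ (W' : A) (π : W' ⟶ W) (_ : Epi π) (y' : W' ⟶ F.obj.obj (op q)), π ≫ z = y' ≫ φ.hom.app (op q) := by
  refine ⟨fun hφ p q h W z y hyz => ?_, fun H p q h => ?_⟩
  · have : Mono (G.obj.map (homOfLE h).op) := G.property.1 _
    have hfac : (imageSubobject (φ.hom.app (op p)) ⊓ Subobject.mk (G.obj.map (homOfLE h).op)).Factors (z ≫ G.obj.map (homOfLE h).op) := by
      rw [Subobject.inf_factors]
      exact ⟨hyz ▸ Subobject.factors_of_factors_right y (by simpa using imageSubobject_factors_comp_self (φ.hom.app (op p)) (𝟙 _)),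
        (Subobject.mk_factors_iff _ _).2 ⟨z, rfl⟩⟩
    rw [← hφ p q h] at hfac
    obtain ⟨W', π, hπ, y', hy'⟩ := surjective_up_to_refinements_of_epi
      (factorThruImageSubobject (φ.hom.app (op q) ≫ G.obj.map (homOfLE h).op)) ((imageSubobject _).factorThru _ hfac)
    refine ⟨W', π, hπ, y', ?_⟩
    rw [← cancel_mono (G.obj.map (homOfLE h).op), Category.assoc, Category.assoc]
    have := congrArg (fun t => t ≫ (imageSubobject (φ.hom.app (op q) ≫ G.obj.map (homOfLE h).op)).arrow) hy'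
    simpa using this
  · have : Mono (G.obj.map (homOfLE h).op) := G.property.1 _
    refine le_antisymm (le_inf ?_ (imageSubobject_le_mk _ _ (φ.hom.app (op q)) rfl)) ?_
    · simp only [← φ.hom.naturality]
      exact imageSubobject_comp_le _ _
    · let P := imageSubobject (φ.hom.app (op p)) ⊓ Subobject.mk (G.obj.map (homOfLE h).op)
      obtain ⟨(z : (P : A) ⟶ G.obj.obj (op q)), (hz : z ≫ G.obj.map (homOfLE h).op = P.arrow)⟩ :=
        (Subobject.mk_factors_iff (G.obj.map (homOfLE h).op) P.arrow).1 (Subobject.inf_arrow_factors_right _ _)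
      obtain ⟨W', e, he, y, hy⟩ := surjective_up_to_refinements_of_epi (factorThruImageSubobject (φ.hom.app (op p)))
        ((imageSubobject (φ.hom.app (op p))).factorThru P.arrow (Subobject.inf_arrow_factors_left _ _))
      have hey : e ≫ P.arrow = y ≫ φ.hom.app (op p) := by
        have := congrArg (fun t => t ≫ (imageSubobject (φ.hom.app (op p))).arrow) hy
        simpa using this
      obtain ⟨W'', π, hπ, y', hy'⟩ := H p q h (e ≫ z) y (by rw [← hey, ← hz, Category.assoc])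
      have hfac : (imageSubobject (φ.hom.app (op q) ≫ G.obj.map (homOfLE h).op)).Factors P.arrow := by
        refine factors_of_epi (π ≫ e) ?_
        rw [← hz, ← Category.assoc, Category.assoc π e z, hy', Category.assoc]
        exact Subobject.factors_of_factors_right y' (by simpa using imageSubobject_factors_comp_self (φ.hom.app (op q) ≫ G.obj.map (homOfLE h).op) (𝟙 _))
      exact Subobject.le_of_comm (Subobject.factorThru _ _ hfac) (Subobject.factorThru_arrow _ _ hfac)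

theorem isStrict_of_exact_gr {X : ℤᵒᵖ ⥤ A} (f : X ⟶ F.obj) (w : f ≫ φ.hom = 0)
    (hS : ∀ p : ℤ, ((ShortComplex.mk f φ.hom w).map (FilD.gr A p)).Exact) : FilD.IsStrict φ :=
  (isStrict_iff φ).2 fun p q hpq {_} z y hyz =>
    lift (ShortComplex.mk f φ.hom w) hS (fun _ => G.property.1 _) (q - p).toNat p q hpq (by omega) z y hyz

theorem exact_gr_kernel (hφ : FilD.IsStrict φ) (p : ℤ) :
    ((ShortComplex.mk (kernel.ι φ.hom) φ.hom (kernel.condition φ.hom)).map (FilD.gr A p)).Exact := by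
  refine (ShortComplex.exact_iff_exact_up_to_refinements _).2 fun W x hx => ?_
  obtain ⟨W₀, e, he, a, ha⟩ := surjective_up_to_refinements_of_epi (cokernel.π (F.obj.map (FilD.stepHom p))) x
  have h1 : (a ≫ φ.hom.app (op p)) ≫ cokernel.π (G.obj.map (FilD.stepHom p)) = 0 := by
    exact (Category.assoc _ _ _).trans ((congrArg (fun t => a ≫ t) (π_gr_map φ.hom p).symm).trans
      ((Category.assoc _ _ _).symm.trans ((congrArg (fun t => t ≫ (FilD.gr A p).map φ.hom) ha.symm).trans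
        ((Category.assoc _ _ _).trans ((congrArg (fun t => e ≫ t) hx).trans comp_zero)))))
  obtain ⟨W₁, e₁, he₁, z, hz⟩ := (exact_step G.obj p).exact_up_to_refinements _ h1
  obtain ⟨W₂, e₂, he₂, y, hy⟩ := (isStrict_iff φ).1 hφ p (p + 1) (Int.le_add_one le_rfl) z (e₁ ≫ a)
    (by rw [Category.assoc]; exact hz)
  have hk : (ShortComplex.mk (kernel.ι φ.hom) φ.hom (kernel.condition φ.hom)).Exact :=
    ShortComplex.exact_of_f_is_kernel _ (kernelIsKernel _)
  have h2 : (e₂ ≫ e₁ ≫ a - y ≫ F.obj.map (FilD.stepHom p)) ≫ φ.hom.app (op p) = 0 := by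
    rw [Preadditive.sub_comp, sub_eq_zero, Category.assoc, Category.assoc, Category.assoc, φ.hom.naturality,
      ← Category.assoc y, ← hy, Category.assoc]
    exact congrArg (fun t => e₂ ≫ t) hz
  obtain ⟨W₃, e₃, he₃, k, hk'⟩ := (hk.map ((evaluation ℤᵒᵖ A).obj (op p))).exact_up_to_refinements _ h2
  refine ⟨W₃, e₃ ≫ e₂ ≫ e₁ ≫ e, inferInstance, k ≫ cokernel.π _, ?_⟩
  have h3 : (e₃ ≫ e₂ ≫ e₁ ≫ a) ≫ cokernel.π (F.obj.map (FilD.stepHom p)) =
      (k ≫ (kernel.ι φ.hom).app (op p)) ≫ cokernel.π (F.obj.map (FilD.stepHom p)) := by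
    rw [← show e₃ ≫ _ = k ≫ (kernel.ι φ.hom).app (op p) from hk']
    simp [cokernel.condition]
  refine Eq.trans (b := (e₃ ≫ e₂ ≫ e₁ ≫ a) ≫ cokernel.π (F.obj.map (FilD.stepHom p))) ?_ (h3.trans ?_)
  · simp only [Category.assoc]
    exact congrArg (fun t => e₃ ≫ e₂ ≫ e₁ ≫ t) ha
  · exact (Category.assoc _ _ _).trans ((congrArg (fun t => k ≫ t) (π_gr_map (kernel.ι φ.hom) p)).symm.trans (Category.assoc _ _ _).symm)

end Groth.Agent.FilDLib
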