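import Mathlib
import Groth.Prelude.Def_FilD

/-!
Strict monomorphisms out of filtered injective objects split.
-/

set_option autoImplicit false

universe v u

open CategoryTheory CategoryTheory.Limits Opposite

namespace Groth.Agent.FilDLib

variable {A : Type u} [Category.{v} A] [Abelian A] {I X : FilD.FilF A} (f : I ⟶ X)

theorem mono_step (F : FilD.FilF A) (p : ℤ) : Mono (F.obj.map (FilD.stepHom p)) := F.property.1 _

/-- The pointwise kernel. -/
noncomputable def kerFun : ℤᵒᵖ ⥤ A where
  obj q := kernel (f.hom.app q)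
  map g := kernel.map _ _ (I.obj.map g) (X.obj.map g) (f.hom.naturality g).symm
  map_id q := by
    apply equalizer.hom_ext
    simp
  map_comp g h := by
    apply equalizer.hom_ext
    simp

theorem isFinFil_kerFun : FilD.IsFinFil A (kerFun f) := by
  refine ⟨fun p q g => ?_, ?_, ?_⟩
  · have : Mono (I.obj.map g) := I.property.1 g
    let m := kernel.map (f.hom.app p) (f.hom.app q) (I.obj.map g) (X.obj.map g) (f.hom.naturality g).symm
    have : Mono (m ≫ kernel.ι (f.hom.app q)) := by
      rw [show m ≫ kernel.ι (f.hom.app q) = kernel.ι (f.hom.app p) ≫ I.obj.map g from kernel.lift_ι _ _ _]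
      infer_instance
    exact mono_of_mono m (kernel.ι (f.hom.app q))
  · obtain ⟨b, hb⟩ := I.property.2.1
    refine ⟨b, fun p hp => ?_⟩
    exact (IsZero.of_mono (kernel.ι (f.hom.app (op p))) (hb p hp) : IsZero (kernel (f.hom.app (op p))))
  · obtain ⟨a, ha⟩ := I.property.2.2
    refine ⟨a, fun p q g hg => ?_⟩
    have := ha g hg
    have hm : Mono (X.obj.map g) := X.property.1 g
    have hz : (kernel.ι (f.hom.app q) ≫ inv (I.obj.map g)) ≫ f.hom.app p = 0 := by
      rw [← cancel_mono (X.obj.map g), zero_comp, Category.assoc, Category.assoc]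
      exact (congrArg (fun y => kernel.ι (f.hom.app q) ≫ inv (I.obj.map g) ≫ y) (f.hom.naturality g).symm).trans (by rw [IsIso.inv_hom_id_assoc, kernel.condition])
    have h : IsIso (kernel.map (f.hom.app p) (f.hom.app q) (I.obj.map g) (X.obj.map g) (f.hom.naturality g).symm) :=
      ⟨kernel.lift _ (kernel.ι (f.hom.app q) ≫ inv (I.obj.map g)) hz,
        equalizer.hom_ext (by simp), equalizer.hom_ext (by simp)⟩
    exact h

theorem mono_app [Mono f] (q : ℤᵒᵖ) : Mono (f.hom.app q) := by
  let K : FilD.FilF A := ⟨kerFun f, isFinFil_kerFun f⟩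
  let ι : K ⟶ I := ObjectProperty.homMk { app := fun q => kernel.ι (f.hom.app q), naturality := fun _ _ g => kernel.lift_ι _ _ _ }
  have h : ι ≫ f = (0 : K ⟶ I) ≫ f := by
    rw [zero_comp]
    ext q
    exact kernel.condition (f.hom.app q)
  have h0 : ι = 0 := (cancel_mono f).1 h
  refine Abelian.mono_of_kernel_ι_eq_zero _ ?_
  exact congrArg (fun φ : K ⟶ I => φ.hom.app q) h0

theorem mono_gr [Mono f] (hu : FilD.IsStrict f) (p : ℤ) : Mono ((FilD.gr A p).map f.hom) := by
  have := mono_app f (op p)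
  have := mono_step X p
  refine Preadditive.mono_of_cancel_zero _ fun {W} x hx => ?_
  obtain ⟨W', e, he, a, ha⟩ := surjective_up_to_refinements_of_epi (cokernel.π (I.obj.map (FilD.stepHom p))) x
  have h1 : (a ≫ f.hom.app (op p)) ≫ cokernel.π (X.obj.map (FilD.stepHom p)) = 0 :=
    (Category.assoc _ _ _).trans ((congrArg (fun y => a ≫ y) (cokernel.π_desc (I.obj.map (FilD.stepHom p))
      (f.hom.app (op p) ≫ cokernel.π (X.obj.map (FilD.stepHom p))) (by rw [f.hom.naturality_assoc, cokernel.condition, comp_zero])).symm).trans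
      ((Category.assoc _ _ _).symm.trans ((congrArg (fun y => y ≫ (FilD.gr A p).map f.hom) ha.symm).trans
        ((Category.assoc _ _ _).trans ((congrArg (fun y => e ≫ y) hx).trans comp_zero)))))
  let S := ShortComplex.mk (X.obj.map (FilD.stepHom p)) (cokernel.π _) (cokernel.condition _)
  have hS : S.Exact := ShortComplex.exact_of_g_is_cokernel _ (cokernelIsCokernel _)
  obtain ⟨W₁, e₁, he₁, b, hb⟩ := hS.exact_up_to_refinements (a ≫ f.hom.app (op p)) h1
  have hlt : p ≤ p + 1 := Int.le_add_one le_rfl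
  have hfac : (imageSubobject (f.hom.app (op p)) ⊓
      @Subobject.mk _ _ _ _ (X.obj.map (homOfLE hlt).op) (X.property.1 _)).Factors (e₁ ≫ a ≫ f.hom.app (op p)) := by
    rw [Subobject.inf_factors]
    exact ⟨(Subobject.factors_of_factors_right e₁ (Subobject.factors_of_factors_right a (imageSubobject_factors_comp_self _ (𝟙 _) |> fun h => by simpa using h))),
      (@Subobject.mk_factors_iff _ _ _ _ _ _ (X.property.1 _) _).2 ⟨b, hb.symm⟩⟩
  have : Mono (X.obj.map (homOfLE hlt).op) := X.property.1 _
  rw [← hu p (p + 1) hlt] at hfac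
  let ψ := f.hom.app (op (p + 1)) ≫ X.obj.map (homOfLE hlt).op
  obtain ⟨W₂, e₂, he₂, c, hc⟩ := surjective_up_to_refinements_of_epi (factorThruImageSubobject ψ)
    ((imageSubobject ψ).factorThru _ hfac)
  have h2 : e₂ ≫ e₁ ≫ a ≫ f.hom.app (op p) = c ≫ ψ := by
    have := congrArg (fun y => y ≫ (imageSubobject ψ).arrow) hc
    simpa [ψ] using this
  have h3 : e₂ ≫ e₁ ≫ a = c ≫ I.obj.map (FilD.stepHom p) := by
    rw [← cancel_mono (f.hom.app (op p))]
    simp only [Category.assoc, f.hom.naturality]
    exact h2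
  refine (cancel_epi (e₂ ≫ e₁ ≫ e)).1 (Eq.trans ?_ comp_zero.symm)
  refine (Category.assoc _ _ _).trans ((congrArg (fun y => e₂ ≫ y) ((Category.assoc _ _ _).trans (congrArg (fun y => e₁ ≫ y) ha))).trans ?_)
  refine (congrArg (fun y => e₂ ≫ y) (Category.assoc e₁ a _).symm).trans ((Category.assoc _ _ _).symm.trans ?_)
  exact (congrArg (fun y => y ≫ cokernel.π (I.obj.map (FilD.stepHom p))) h3).trans
    ((Category.assoc _ _ _).trans ((congrArg (fun y => c ≫ y) (cokernel.condition _)).trans comp_zero))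

variable (hI : FilD.IsFilteredInjective I)

include hI in
theorem injective_obj (q : ℤ) : Injective (I.obj.obj (op q)) := by
  obtain ⟨b, hb⟩ := I.property.2.1
  have main : ∀ k : ℕ, ∀ q : ℤ, b ≤ q + k → Injective (I.obj.obj (op q)) := by
    intro k
    induction k with
    | zero => exact fun q hq => ⟨fun _ _ _ => ⟨0, (hb q (by simpa using hq)).eq_of_tgt _ _⟩⟩
    | succ k ih =>
      intro q hq
      have h1 := ih (q + 1) (by push_cast at hq ⊢; omega)
      have h2 : Injective (cokernel (I.obj.map (FilD.stepHom q))) := hI q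
      have := mono_step I q
      let S := ShortComplex.mk (I.obj.map (FilD.stepHom q)) (cokernel.π _) (cokernel.condition _)
      have hS : S.ShortExact :=
        { exact := ShortComplex.exact_of_g_is_cokernel _ (cokernelIsCokernel _) }
      have : Injective S.X₁ := h1
      have : Injective S.X₃ := h2
      have : Injective (S.X₁ ⊞ S.X₃) := inferInstance
      exact Injective.of_iso (hS.splittingOfInjective.isoBinaryBiproduct).symm this
  exact main (b - q).toNat q (by omega)

include hI in
theorem exists_step [Mono f] (hu : FilD.IsStrict f) (p : ℤ) (r : X.obj.obj (op (p + 1)) ⟶ I.obj.obj (op (p + 1)))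
    (hr : f.hom.app (op (p + 1)) ≫ r = 𝟙 _) :
    ∃ s : X.obj.obj (op p) ⟶ I.obj.obj (op p), f.hom.app (op p) ≫ s = 𝟙 _ ∧
      X.obj.map (FilD.stepHom p) ≫ s = r ≫ I.obj.map (FilD.stepHom p) := by
  have := injective_obj hI p
  have := mono_step X p
  have := mono_gr f hu p
  let s₀ := Injective.factorThru (r ≫ I.obj.map (FilD.stepHom p)) (X.obj.map (FilD.stepHom p))
  have hs₀ : X.obj.map (FilD.stepHom p) ≫ s₀ = r ≫ I.obj.map (FilD.stepHom p) := Injective.comp_factorThru _ _
  let d : cokernel (I.obj.map (FilD.stepHom p)) ⟶ I.obj.obj (op p) := cokernel.desc _ (𝟙 _ - f.hom.app (op p) ≫ s₀) (by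
    rw [Preadditive.comp_sub, Category.comp_id, f.hom.naturality_assoc, hs₀, reassoc_of% hr, sub_self])
  let m : cokernel (I.obj.map (FilD.stepHom p)) ⟶ cokernel (X.obj.map (FilD.stepHom p)) := (FilD.gr A p).map f.hom
  have : Mono m := mono_gr f hu p
  let e : cokernel (X.obj.map (FilD.stepHom p)) ⟶ I.obj.obj (op p) := Injective.factorThru d m
  have he : m ≫ e = d := Injective.comp_factorThru _ _
  refine ⟨s₀ + cokernel.π (X.obj.map (FilD.stepHom p)) ≫ e, ?_, ?_⟩
  · have hπ : f.hom.app (op p) ≫ cokernel.π (X.obj.map (FilD.stepHom p)) =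
        cokernel.π (I.obj.map (FilD.stepHom p)) ≫ m := (cokernel.π_desc _ _ _).symm
    rw [Preadditive.comp_add, reassoc_of% hπ, he, cokernel.π_desc]
    abel
  · rw [Preadditive.comp_add, cokernel.condition_assoc, zero_comp, add_zero, hs₀]

/-- The retraction, degree by degree. -/
noncomputable def retr [Mono f] (hu : FilD.IsStrict f) (hI : FilD.IsFilteredInjective I) (b : ℤ)
    (hb : ∀ p : ℤ, b ≤ p → IsZero (I.obj.obj (op p))) (p : ℤ) :
    {s : X.obj.obj (op p) ⟶ I.obj.obj (op p) // f.hom.app (op p) ≫ s = 𝟙 _} :=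
  if h : b ≤ p then ⟨0, (hb p h).eq_of_src _ _⟩ else
    ⟨(exists_step f hI hu p _ (retr hu hI b hb (p + 1)).2).choose,
      (exists_step f hI hu p _ (retr hu hI b hb (p + 1)).2).choose_spec.1⟩
termination_by (b - p).toNat
decreasing_by all_goals omega

theorem retr_step [Mono f] (hu : FilD.IsStrict f) (hI : FilD.IsFilteredInjective I) (b : ℤ)
    (hb : ∀ p : ℤ, b ≤ p → IsZero (I.obj.obj (op p))) (p : ℤ) :
    X.obj.map (FilD.stepHom p) ≫ (retr f hu hI b hb p).1 =
      (retr f hu hI b hb (p + 1)).1 ≫ I.obj.map (FilD.stepHom p) := by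
  by_cases h : b ≤ p
  · exact (hb p h).eq_of_tgt _ _
  · rw [retr.eq_def f hu hI b hb p, dif_neg h]
    exact (exists_step f hI hu p _ (retr f hu hI b hb (p + 1)).2).choose_spec.2

theorem retr_naturality [Mono f] (hu : FilD.IsStrict f) (hI : FilD.IsFilteredInjective I) (b : ℤ)
    (hb : ∀ p : ℤ, b ≤ p → IsZero (I.obj.obj (op p))) :
    ∀ (k : ℕ) (p q : ℤ) (g : op q ⟶ op p), q = p + k →
      X.obj.map g ≫ (retr f hu hI b hb p).1 = (retr f hu hI b hb q).1 ≫ I.obj.map g := by
  intro k
  induction k with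
  | zero =>
    intro p q g h
    obtain rfl : q = p := by simpa using h
    rw [Subsingleton.elim g (𝟙 _)]
    simp
  | succ k ih =>
    intro p q g h
    let g₁ : op q ⟶ op (p + 1) := (homOfLE (by push_cast at h; omega : p + 1 ≤ q)).op
    rw [Subsingleton.elim g (g₁ ≫ FilD.stepHom p), Functor.map_comp, Functor.map_comp, Category.assoc,
      retr_step, ← Category.assoc, ih (p + 1) q g₁ (by push_cast at h; omega), Category.assoc]

theorem exists_retraction [Mono f] (hu : FilD.IsStrict f) (hI : FilD.IsFilteredInjective I) :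
    ∃ r : X ⟶ I, f ≫ r = 𝟙 I := by
  obtain ⟨b, hb⟩ := I.property.2.1
  refine ⟨ObjectProperty.homMk { app := fun q => (retr f hu hI b hb q.unop).1, naturality := fun q p g => ?_ }, ?_⟩
  · have hle : p.unop ≤ q.unop := leOfHom g.unop
    exact retr_naturality f hu hI b hb (q.unop - p.unop).toNat p.unop q.unop g (by omega)
  · ext q
    exact (retr f hu hI b hb q.unop).2

end Groth.Agent.FilDLib
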