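import Mathlib
import Groth.Agent.FilDLib.GrExact
import Groth.Agent.FilDLib.Retract

/-!
Filtered injective objects have the extension property along sequences which are exact on graded pieces.
-/

set_option autoImplicit false

universe v u

open CategoryTheory CategoryTheory.Limits Opposite

namespace Groth.Agent.FilDLib

variable {A : Type u} [Category.{v} A] [Abelian A]

/-- A map killing the kernel of `m` extends along `m` when the target is injective. -/
theorem exists_desc_of_kernel {W Z J : A} [Injective J] (m : W ⟶ Z) (t : W ⟶ J) (h : kernel.ι m ≫ t = 0) :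
    ∃ s : Z ⟶ J, m ≫ s = t := by
  let t' : Abelian.coimage m ⟶ J := cokernel.desc _ t h
  refine ⟨Injective.factorThru t' (Abelian.factorThruCoimage m), ?_⟩
  conv_lhs => arg 1; rw [← Abelian.coimage.fac m]
  rw [Category.assoc, Injective.comp_factorThru, cokernel.π_desc]

theorem injective_obj_of_grF {I : FilD.FilF A} (hI : FilD.IsFilteredInjective I) (p : ℤ) : Injective (I.obj.obj (op p)) :=
  injective_obj hI p

section

variable (S : ShortComplex (ℤᵒᵖ ⥤ A)) (hS : ∀ p : ℤ, (S.map (FilD.gr A p)).Exact)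
  (hZ : ∀ p : ℤ, Mono (S.X₃.map (FilD.stepHom p))) {I : FilD.FilF A} (hI : FilD.IsFilteredInjective I)
  (ψ : S.X₂ ⟶ I.obj) (hψ : S.f ≫ ψ = 0)

include hS hZ hI hψ in
theorem exists_extend_step (p : ℤ) (r : S.X₃.obj (op (p + 1)) ⟶ I.obj.obj (op (p + 1)))
    (hr : S.g.app (op (p + 1)) ≫ r = ψ.app (op (p + 1))) :
    ∃ s : S.X₃.obj (op p) ⟶ I.obj.obj (op p), S.g.app (op p) ≫ s = ψ.app (op p) ∧
      S.X₃.map (FilD.stepHom p) ≫ s = r ≫ I.obj.map (FilD.stepHom p) := by
  have := injective_obj_of_grF hI p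
  let m := biprod.desc (S.g.app (op p)) (S.X₃.map (FilD.stepHom p))
  obtain ⟨s, hs⟩ := exists_desc_of_kernel m (biprod.desc (ψ.app (op p)) (r ≫ I.obj.map (FilD.stepHom p))) (by
    let y := kernel.ι m ≫ biprod.fst
    let z := -(kernel.ι m ≫ biprod.snd)
    have hyz : y ≫ S.g.app (op p) = z ≫ S.X₃.map (FilD.stepHom p) := by
      have h0 := kernel.condition m
      simp only [m, biprod.desc_eq, Preadditive.comp_add] at h0
      simp only [y, z, Category.assoc, Preadditive.neg_comp]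
      exact eq_neg_of_add_eq_zero_left h0
    obtain ⟨W', π, hπ, x, y₁, hy, hz⟩ := descend S hS hZ p y z hyz
    rw [← cancel_epi π, comp_zero]
    simp only [biprod.desc_eq, Preadditive.comp_add, ← Category.assoc]
    rw [show (π ≫ kernel.ι m) ≫ biprod.fst = π ≫ y from Category.assoc _ _ _,
      show (π ≫ kernel.ι m) ≫ biprod.snd = -(π ≫ z) by simp [z], hy, hz]
    have hf : S.f.app (op p) ≫ ψ.app (op p) = 0 := by rw [← NatTrans.comp_app, hψ, zero_app]
    simp only [Preadditive.add_comp, Preadditive.neg_comp, Category.assoc, hf, comp_zero, zero_add, ψ.naturality,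
      reassoc_of% hr]
    exact add_neg_cancel _)
  refine ⟨s, ?_, ?_⟩
  · simpa [m] using congrArg (fun t => biprod.inl ≫ t) hs
  · simpa [m] using congrArg (fun t => biprod.inr ≫ t) hs

variable (b : ℤ) (hb : ∀ p : ℤ, b ≤ p → IsZero (I.obj.obj (op p)))

include hS hZ hI hψ hb in
/-- The extension, level by level. -/
noncomputable def ext (p : ℤ) : {s : S.X₃.obj (op p) ⟶ I.obj.obj (op p) // S.g.app (op p) ≫ s = ψ.app (op p)} :=
  if h : b ≤ p then ⟨0, (hb p h).eq_of_tgt _ _⟩ else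
    ⟨(exists_extend_step S hS hZ hI ψ hψ p _ (ext (p + 1)).2).choose,
      (exists_extend_step S hS hZ hI ψ hψ p _ (ext (p + 1)).2).choose_spec.1⟩
termination_by (b - p).toNat
decreasing_by all_goals omega

theorem ext_step (p : ℤ) :
    S.X₃.map (FilD.stepHom p) ≫ (ext S hS hZ hI ψ hψ b hb p).1 =
      (ext S hS hZ hI ψ hψ b hb (p + 1)).1 ≫ I.obj.map (FilD.stepHom p) := by
  by_cases h : b ≤ p
  · exact (hb p h).eq_of_tgt _ _
  · rw [ext.eq_def S hS hZ hI ψ hψ b hb p, dif_neg h]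
    exact (exists_extend_step S hS hZ hI ψ hψ p _ (ext S hS hZ hI ψ hψ b hb (p + 1)).2).choose_spec.2

theorem ext_naturality : ∀ (k : ℕ) (p q : ℤ) (g : op q ⟶ op p), q = p + k →
    S.X₃.map g ≫ (ext S hS hZ hI ψ hψ b hb p).1 = (ext S hS hZ hI ψ hψ b hb q).1 ≫ I.obj.map g := by
  intro k
  induction k with
  | zero =>
    intro p q g h
    obtain rfl : q = p := by simpa using h
    rw [Subsingleton.elim g (𝟙 _)]
    simp
  | succ k ih =>
    intro p q g h
    let g₁ : op q ⟶ op (p + 1) := (homOfLE (by push_cast at h; omega : p + 1 ≤ q)).op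
    rw [Subsingleton.elim g (g₁ ≫ FilD.stepHom p), Functor.map_comp, Functor.map_comp, Category.assoc,
      ext_step, ← Category.assoc, ih (p + 1) q g₁ (by push_cast at h; omega), Category.assoc]

include hS hZ hI hψ in
theorem exists_extend : ∃ h : S.X₃ ⟶ I.obj, S.g ≫ h = ψ := by
  obtain ⟨b, hb⟩ := I.property.2.1
  refine ⟨{ app := fun q => (ext S hS hZ hI ψ hψ b hb q.unop).1, naturality := fun q p g => ?_ }, ?_⟩
  · have hle : p.unop ≤ q.unop := leOfHom g.unop
    exact ext_naturality S hS hZ hI ψ hψ b hb (q.unop - p.unop).toNat p.unop q.unop g (by omega)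
  · ext q
    exact (ext S hS hZ hI ψ hψ b hb q.unop).2

end

/-- Extension in the category of finite filtered objects. -/
theorem exists_extendF {Y Z I : FilD.FilF A} {X : ℤᵒᵖ ⥤ A} (f : X ⟶ Y.obj) (g : Y ⟶ Z) (w : f ≫ g.hom = 0)
    (hS : ∀ p : ℤ, ((ShortComplex.mk f g.hom w).map (FilD.gr A p)).Exact) (hI : FilD.IsFilteredInjective I)
    (ψ : Y ⟶ I) (hψ : f ≫ ψ.hom = 0) : ∃ h : Z ⟶ I, g ≫ h = ψ := by
  obtain ⟨h, hh⟩ := exists_extend (ShortComplex.mk f g.hom w) hS (fun _ => Z.property.1 _) hI ψ.hom hψ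
  exact ⟨ObjectProperty.homMk h, by ext1; exact hh⟩

theorem exists_extend_of_mono {Y Z I : FilD.FilF A} (g : Y ⟶ Z) (hg : ∀ p : ℤ, Mono ((FilD.gr A p).map g.hom))
    (hI : FilD.IsFilteredInjective I) (ψ : Y ⟶ I) : ∃ h : Z ⟶ I, g ≫ h = ψ :=
  exists_extendF (0 : Y.obj ⟶ Y.obj) g zero_comp (fun p => (ShortComplex.exact_iff_mono _ ((FilD.gr A p).map_zero Y.obj Y.obj)).2 (hg p))
    hI ψ zero_comp

end Groth.Agent.FilDLib
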