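import Mathlib
import Groth.Agent.FilDLib.Extend

/-!
Complexes of finite filtered objects: biproducts, null homotopies, orthogonality.
-/

set_option autoImplicit false

universe v u

open CategoryTheory CategoryTheory.Limits Opposite

namespace Groth.Agent.FilDLib

variable {A : Type u} [Category.{v} A] [Abelian A]

/-- The pointwise biproduct of two functors. -/
noncomputable def bipFun (F G : ℤᵒᵖ ⥤ A) : ℤᵒᵖ ⥤ A where
  obj p := F.obj p ⊞ G.obj p
  map g := biprod.map (F.map g) (G.map g)

theorem isFinFil_bipFun (F G : FilD.FilF A) : FilD.IsFinFil A (bipFun F.obj G.obj) := by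
  refine ⟨fun p q g => ?_, ?_, ?_⟩
  · have := F.property.1 g
    have := G.property.1 g
    exact biprod.map_mono _ _
  · obtain ⟨b, hb⟩ := F.property.2.1
    obtain ⟨c, hc⟩ := G.property.2.1
    exact ⟨max b c, fun p hp => biprod_isZero_iff _ _ |>.2 ⟨hb p (le_trans (le_max_left _ _) hp), hc p (le_trans (le_max_right _ _) hp)⟩⟩
  · obtain ⟨a, ha⟩ := F.property.2.2
    obtain ⟨c, hc⟩ := G.property.2.2
    refine ⟨min a c, fun p q g hp => ?_⟩
    have := ha g (hp.trans (min_le_left _ _))
    have := hc g (hp.trans (min_le_right _ _))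
    refine ⟨biprod.map (inv (F.obj.map g)) (inv (G.obj.map g)), ?_, ?_⟩ <;> dsimp [bipFun] <;> ext <;> simp

/-- The biproduct bicone of two finite filtered objects. -/
noncomputable def bipBicone (F G : FilD.FilF A) : BinaryBicone F G where
  pt := ⟨bipFun F.obj G.obj, isFinFil_bipFun F G⟩
  fst := ObjectProperty.homMk { app := fun _ => biprod.fst, naturality := fun _ _ g => biprod.map_fst _ _ }
  snd := ObjectProperty.homMk { app := fun _ => biprod.snd, naturality := fun _ _ g => biprod.map_snd _ _ }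
  inl := ObjectProperty.homMk { app := fun _ => biprod.inl, naturality := fun _ _ g => (biprod.inl_map _ _).symm }
  inr := ObjectProperty.homMk { app := fun _ => biprod.inr, naturality := fun _ _ g => (biprod.inr_map _ _).symm }
  inl_fst := by ext p; exact biprod.inl_fst
  inl_snd := by ext p; exact biprod.inl_snd
  inr_fst := by ext p; exact biprod.inr_fst
  inr_snd := by ext p; exact biprod.inr_snd

instance : HasBinaryBiproducts (FilD.FilF A) where
  has_binary_biproduct F G := hasBinaryBiproduct_of_total (bipBicone F G) (by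
    ext p
    exact biprod.total)

section Nullhomotopy

variable {K I : CochainComplex (FilD.FilF A) ℤ} (hK : FilD.IsFilteredAcyclic K)
  (hI : ∀ n, FilD.IsFilteredInjective (I.X n)) (φ : K ⟶ I)

include hK hI in
theorem exists_lift_d {j k i : ℤ} (hjk : j + 1 = k) (hki : k + 1 = i) {J : FilD.FilF A} (hJ : FilD.IsFilteredInjective J)
    (ψ : K.X k ⟶ J) (hψ : K.d j k ≫ ψ = 0) : ∃ h : K.X i ⟶ J, K.d k i ≫ h = ψ := by
  refine exists_extendF (K.d j k).hom (K.d k i) ?_ (fun p => ?_) hJ ψ ?_
  · rw [← ObjectProperty.FullSubcategory.comp_hom, K.d_comp_d]; rfl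
  · exact (((FilD.grCx p).obj K).exactAt_iff' j k i ((CochainComplex.prev ℤ k).trans (by omega)) ((CochainComplex.next ℤ k).trans hki)).1 (hK p k)
  · rw [← ObjectProperty.FullSubcategory.comp_hom, hψ]; rfl

variable (a : ℤ) (ha : ∀ n, n < a → IsZero (I.X n))

/-- The partial homotopy: a map `h : Kⁱ ⟶ Iʲ` with `d ≫ (φ - h ≫ d) = 0`. -/
abbrev PHom (i j : ℤ) := {h : K.X i ⟶ I.X j // K.d j i ≫ (φ.f i - h ≫ I.d j i) = 0}

include hK hI in
theorem exists_next {j k i : ℤ} (hjk : j + 1 = k) (hki : k + 1 = i) (h : PHom φ k j) :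
    ∃ h' : PHom φ i k, K.d k i ≫ h'.1 + h.1 ≫ I.d j k = φ.f k := by
  obtain ⟨h', hh'⟩ := exists_lift_d hK hI hjk hki (hI k) (φ.f k - h.1 ≫ I.d j k) h.2
  refine ⟨⟨h', ?_⟩, ?_⟩
  · rw [Preadditive.comp_sub, ← φ.comm, ← Category.assoc, hh', Preadditive.sub_comp, Category.assoc, I.d_comp_d,
      comp_zero, sub_zero, sub_self]
  · rw [hh']; abel

include hK hI ha in
/-- The partial homotopies. -/
noncomputable def phom (i : ℤ) : ∀ j : ℤ, j + 1 = i → PHom φ i j :=
  if h : i ≤ a then fun j hj => ⟨0, by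
    rw [zero_comp, sub_zero, ← φ.comm, (ha j (by omega)).eq_zero_of_tgt (φ.f j), zero_comp]⟩
  else fun j hj => (exists_next hK hI φ (show (j - 1) + 1 = j by omega) hj (phom j (j - 1) (by omega))).choose
termination_by (i - a).toNat
decreasing_by all_goals omega

theorem phom_spec (i j k : ℤ) (hj : j + 1 = k) (hk : k + 1 = i) :
    K.d k i ≫ (phom hK hI φ a ha i k hk).1 + (phom hK hI φ a ha k j hj).1 ≫ I.d j k = φ.f k := by
  by_cases h : i ≤ a
  · exact (ha k (by omega)).eq_of_tgt _ _
  · obtain rfl : j = k - 1 := by omega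
    conv_lhs => arg 1; rw [phom.eq_def hK hI φ a ha i, dif_neg h]
    exact (exists_next hK hI φ hj hk (phom hK hI φ a ha k (k - 1) hj)).choose_spec

include hK hI ha in
theorem nonempty_homotopy_zero : Nonempty (Homotopy φ 0) :=
  ⟨{  hom := fun i j => if h : j + 1 = i then (phom hK hI φ a ha i j h).1 else 0
      zero := fun i j h => dif_neg h
      comm := fun n => by
        rw [dNext_eq _ (show (ComplexShape.up ℤ).Rel n (n + 1) from rfl),
          prevD_eq _ (show (ComplexShape.up ℤ).Rel (n - 1) n from sub_add_cancel n 1),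
          dif_pos rfl, dif_pos (sub_add_cancel n 1), HomologicalComplex.zero_f, add_zero]
        exact (phom_spec hK hI φ a ha (n + 1) (n - 1) n (sub_add_cancel n 1) rfl).symm }⟩

include hK hI ha in
theorem quotient_map_eq_zero : (HomotopyCategory.quotient _ _).map φ = 0 :=
  (HomotopyCategory.eq_of_homotopy φ 0 (nonempty_homotopy_zero hK hI φ a ha).some).trans (Functor.map_zero _ _ _)

end Nullhomotopy

theorem isFilteredAcyclic_mappingCone {K L : CochainComplex (FilD.FilF A) ℤ} (α : K ⟶ L)
    (hα : FilD.IsFilteredQuasiIso α) : FilD.IsFilteredAcyclic (CochainComplex.mappingCone α) := by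
  intro p n
  let β := (FilD.grCx p).map α
  have hw : (HomotopyCategory.subcategoryAcyclic A).trW ((HomotopyCategory.quotient _ _).map β) := by
    rw [← HomotopyCategory.quasiIso_eq_trW_subcategoryAcyclic, HomotopyCategory.quotient_map_mem_quasiIso_iff,
      HomologicalComplex.mem_quasiIso_iff]
    exact hα p
  have h3 : HomotopyCategory.subcategoryAcyclic A ((HomotopyCategory.quotient _ _).obj (CochainComplex.mappingCone β)) :=
    (ObjectProperty.trW_iff_of_distinguished _ _ (HomotopyCategory.mappingCone_triangleh_distinguished β)).1 hw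
  exact ((HomotopyCategory.quotient_obj_mem_subcategoryAcyclic_iff_acyclic _).1 h3 n).of_iso
    (CochainComplex.mappingCone.mapHomologicalComplexIso α (FilD.grF A p)).symm

theorem isFilteredAcyclic_of_iso {K L : CochainComplex (FilD.FilF A) ℤ} (e : K ≅ L) (h : FilD.IsFilteredAcyclic K) :
    FilD.IsFilteredAcyclic L := fun p n => (h p n).of_iso ((FilD.grCx p).mapIso e)

open CochainComplex in
theorem bijective_precomp (I : CochainComplex (FilD.FilF A) ℤ) (a : ℤ) [I.IsStrictlyGE a]
    (hI : ∀ n, FilD.IsFilteredInjective (I.X n)) {K L : CochainComplex (FilD.FilF A) ℤ} (α : K ⟶ L)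
    (hα : FilD.IsFilteredQuasiIso α) :
    Function.Bijective (fun β : (HomotopyCategory.quotient (FilD.FilF A) (ComplexShape.up ℤ)).obj L ⟶
      (HomotopyCategory.quotient (FilD.FilF A) (ComplexShape.up ℤ)).obj I =>
        (HomotopyCategory.quotient (FilD.FilF A) (ComplexShape.up ℤ)).map α ≫ β) := by
  let Q := HomotopyCategory.quotient (FilD.FilF A) (ComplexShape.up ℤ)
  let C := mappingCone α
  have hC : FilD.IsFilteredAcyclic C := isFilteredAcyclic_mappingCone α hα
  have hT := HomotopyCategory.mappingCone_triangleh_distinguished α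
  constructor
  · intro β β' h
    rw [← sub_eq_zero]
    obtain ⟨g, hg⟩ := Pretriangulated.Triangle.yoneda_exact₂ _ hT (β - β') (by
      change Q.map α ≫ (β - β') = 0
      exact (Preadditive.comp_sub ..).trans (sub_eq_zero.2 h))
    obtain ⟨g', hg'⟩ := Q.map_surjective (show Q.obj C ⟶ Q.obj I from g)
    rw [quotient_map_eq_zero hC hI g' a fun n hn => I.isZero_of_isStrictlyGE a n hn] at hg'
    exact hg.trans ((congrArg (fun t => _ ≫ t) hg'.symm).trans comp_zero)
  · intro γ
    -- shift by one to place the cone in front of `K`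
    have hT' := Pretriangulated.inv_rot_of_distTriang _ hT
    let J := I⟦(1 : ℤ)⟧
    have hJ : ∀ n, FilD.IsFilteredInjective (J.X n) := fun n => hI (n + 1)
    have hJa : ∀ n, n < a - 1 → IsZero (J.X n) := fun n hn => I.isZero_of_isStrictlyGE a (n + 1) (by omega)
    let T := mappingCone.triangleh α
    have hz : ∀ g : T.obj₃ ⟶ (Q.obj I)⟦(1 : ℤ)⟧, g = 0 := fun g => by
      let e := (Q.commShiftIso (1 : ℤ)).app I
      obtain ⟨g', hg'⟩ := Q.map_surjective ((show Q.obj C ⟶ (Q.obj I)⟦(1 : ℤ)⟧ from g) ≫ e.inv)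
      rw [quotient_map_eq_zero hC hJ g' (a - 1) hJa] at hg'
      exact (cancel_mono e.inv).1 (hg'.symm.trans zero_comp.symm)
    have hz₀ : ∀ f : (T.obj₃)⟦(-1 : ℤ)⟧ ⟶ Q.obj I, f = 0 := fun f => by
      apply (CategoryTheory.shiftFunctor _ (1 : ℤ)).map_injective
      rw [Functor.map_zero]
      exact (cancel_epi (((shiftEquiv _ (1 : ℤ)).counitIso.app T.obj₃).inv)).1 ((hz _).trans comp_zero.symm)
    obtain ⟨g, hg⟩ := Pretriangulated.Triangle.yoneda_exact₂ _ hT' γ (hz₀ _)
    exact ⟨g, hg.symm⟩

end Groth.Agent.FilDLib
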