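import Mathlib
import Groth.Agent.FilDLib.GrExact
import Groth.Agent.FilDLib.Extend

/-!
Split filtered objects and strict embeddings into filtered injective objects.
-/

set_option autoImplicit false

universe v u

open CategoryTheory CategoryTheory.Limits Opposite

namespace Groth.Agent.FilDLib

variable {A : Type u} [Category.{v} A] [Abelian A]

attribute [local instance] Abelian.hasFiniteBiproducts

/-- The indices contributing to level `p` of a split filtered object. -/
abbrev Idx (s : Finset ℤ) (p : ℤ) : Type := {k : s // p ≤ (k : ℤ)}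

/-- The inclusion of the index set of level `q` into the one of level `p ≤ q`. -/
abbrev idxMap {s : Finset ℤ} {p q : ℤ} (h : p ≤ q) (k : Idx s q) : Idx s p := ⟨k.1, h.trans k.2⟩

section

variable (s : Finset ℤ) (J : ℤ → A)

/-- Level `p` of the split filtered object. -/
noncomputable abbrev level (p : ℤ) : A := ⨁ fun k : Idx s p => J k.1

variable {p q : ℤ} (h : p ≤ q)

/-- The transition map of the split filtered object. -/
noncomputable def levelMap : level s J q ⟶ level s J p :=
  biproduct.desc fun k => biproduct.ι (fun k : Idx s p => J k.1) (idxMap h k)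

@[reassoc]
theorem ι_levelMap (k : Idx s q) :
    biproduct.ι (fun k : Idx s q => J k.1) k ≫ levelMap s J h = biproduct.ι (fun k : Idx s p => J k.1) (idxMap h k) :=
  biproduct.ι_desc _ _

/-- The retraction of a transition map of a split filtered object. -/
noncomputable def levelRetr : level s J p ⟶ level s J q :=
  biproduct.lift fun k => biproduct.π (fun k : Idx s p => J k.1) (idxMap h k)

theorem levelMap_levelRetr : levelMap s J h ≫ levelRetr s J h = 𝟙 _ := by
  refine biproduct.hom_ext' _ _ fun k => biproduct.hom_ext _ _ fun l => ?_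
  rw [Category.assoc, Category.assoc, show levelRetr s J h ≫ biproduct.π (fun k : Idx s q => J k.1) l = _ from biproduct.lift_π _ _,
    ← Category.assoc, ι_levelMap, Category.comp_id]
  by_cases hkl : k = l
  · subst hkl; simp
  · rw [biproduct.ι_π_ne _ hkl]
    exact biproduct.ι_π_ne (fun k : Idx s p => J k.1) fun h' : idxMap h k = idxMap h l => hkl (Subtype.ext (congrArg (fun i : Idx s p => i.1) h'))

theorem levelMap_π (k : Idx s p) (hk : ¬ q ≤ (k.1 : ℤ)) :
    levelMap s J h ≫ biproduct.π (fun k : Idx s p => J k.1) k = 0 := by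
  refine biproduct.hom_ext' _ _ fun l => ?_
  rw [ι_levelMap_assoc, comp_zero]
  refine biproduct.ι_π_ne _ fun h' => hk ?_
  subst h'
  exact l.2

theorem levelMap_π_idxMap (k : Idx s q) :
    levelMap s J h ≫ biproduct.π (fun k : Idx s p => J k.1) (idxMap h k) =
      biproduct.π (fun k : Idx s q => J k.1) k := by
  have h' := congrArg (fun t => t ≫ biproduct.π (fun k : Idx s q => J k.1) k) (levelMap_levelRetr s J h)
  rw [Category.assoc, show levelRetr s J h ≫ biproduct.π (fun k : Idx s q => J k.1) k = _ from biproduct.lift_π _ _,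
    Category.id_comp] at h'
  exact h'

end

/-- The filtered object with graded pieces `J k`, `k ∈ s`. -/
noncomputable def splitFun (s : Finset ℤ) (J : ℤ → A) : ℤᵒᵖ ⥤ A where
  obj p := level s J p.unop
  map {p q} g := levelMap s J (leOfHom g.unop)
  map_id p := by
    refine biproduct.hom_ext' _ _ fun k => ?_
    simp [idxMap, ι_levelMap]
  map_comp f g := by
    refine biproduct.hom_ext' _ _ fun k => ?_
    simp [idxMap, ι_levelMap, ι_levelMap_assoc]

theorem isFinFil_splitFun (s : Finset ℤ) (J : ℤ → A) : FilD.IsFinFil A (splitFun s J) := by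
  refine ⟨fun p q g => (SplitMono.mk (f := (splitFun s J).map g) _ (levelMap_levelRetr s J (leOfHom g.unop))).mono, ?_, ?_⟩
  · refine ⟨∑ k ∈ s, |k| + 1, fun p hp => (IsZero.iff_id_eq_zero (level s J p)).2 (biproduct.hom_ext' _ _ fun k => ?_)⟩
    have h1 : ((k.1 : ℤ)) ≤ ∑ k ∈ s, |k| :=
      (le_abs_self _).trans (Finset.single_le_sum (fun i _ => abs_nonneg i) k.1.2)
    have h2 : p ≤ (k.1 : ℤ) := k.2
    omega
  · refine ⟨-∑ k ∈ s, |k|, fun p q g hp => ⟨levelRetr s J (leOfHom g.unop), levelMap_levelRetr s J _, ?_⟩⟩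
    change levelRetr s J (leOfHom g.unop) ≫ levelMap s J (leOfHom g.unop) = 𝟙 (level s J q.unop)
    refine biproduct.hom_ext _ _ fun l => ?_
    have h1 : p.unop ≤ (l.1 : ℤ) := hp.trans ((neg_le_neg (Finset.single_le_sum (fun i _ => abs_nonneg i) l.1.2)).trans (neg_abs_le _))
    exact (Category.assoc _ _ _).trans ((congrArg (fun t => levelRetr s J (leOfHom g.unop) ≫ t)
      (levelMap_π_idxMap s J (leOfHom g.unop) ⟨l.1, h1⟩ : levelMap s J _ ≫ biproduct.π (fun k : Idx s q.unop => J k.1) l = _)).trans
        ((biproduct.lift_π _ _).trans (Category.id_comp _).symm))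

theorem injective_gr_splitFun (s : Finset ℤ) (J : ℤ → A) [∀ k, Injective (J k)] (p : ℤ) :
    Injective ((FilD.gr A p).obj (splitFun s J)) := by
  let r : (splitFun s J).obj (op p) ⟶ (splitFun s J).obj (op (p + 1)) := levelRetr s J (Int.le_add_one le_rfl)
  have hr : (splitFun s J).map (FilD.stepHom p) ≫ r = 𝟙 _ := levelMap_levelRetr _ _ _
  have : Injective ((splitFun s J).obj (op p)) := inferInstanceAs (Injective (⨁ fun k : Idx s p => J k.1))
  have ret : Retract (cokernel ((splitFun s J).map (FilD.stepHom p))) ((splitFun s J).obj (op p)) :=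
    { i := cokernel.desc _ (𝟙 _ - r ≫ (splitFun s J).map (FilD.stepHom p))
        (by rw [Preadditive.comp_sub, Category.comp_id, reassoc_of% hr, sub_self])
      r := cokernel.π _
      retract := by
        ext
        simp }
  change Injective (cokernel ((splitFun s J).map (FilD.stepHom p)))
  exact ⟨fun {X Y} g f _ => ⟨Injective.factorThru (g ≫ ret.i) f ≫ ret.r,
    by rw [← Category.assoc, Injective.comp_factorThru, Category.assoc, ret.retract, Category.comp_id]⟩⟩

theorem exists_into_split [EnoughInjectives A] (X : FilD.FilF A) : ∃ (I : FilD.FilF A) (u : X ⟶ I),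
    FilD.IsFilteredInjective I ∧ ∀ p : ℤ, Mono ((FilD.gr A p).map u.hom) := by
  classical
  obtain ⟨b, hb⟩ := X.property.2.1
  obtain ⟨a, ha⟩ := X.property.2.2
  let lo : ℤ → ℤ := fun p => min p a
  let g₂ : ∀ p : ℤ, op a ⟶ op (lo p) := fun p => (homOfLE (min_le_right p a)).op
  have h₂ : ∀ p, IsIso (X.obj.map (g₂ p)) := fun p => ha _ le_rfl
  let c : ∀ p : ℤ, X.obj.obj (op p) ⟶ X.obj.obj (op a) := fun p =>
    X.obj.map (homOfLE (min_le_left p a)).op ≫ @inv _ _ _ _ _ (h₂ p)
  have hc : ∀ {p q : ℤ} (g : op q ⟶ op p), X.obj.map g ≫ c p = c q := by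
    intro p q g
    have := h₂ p
    have := h₂ q
    let g₃ : op (lo q) ⟶ op (lo p) := (homOfLE (min_le_min_right a (leOfHom g.unop))).op
    simp only [c]
    rw [← Category.assoc, IsIso.comp_inv_eq, Category.assoc, ← X.obj.map_comp,
      Subsingleton.elim (g ≫ _) ((homOfLE (min_le_left q a)).op ≫ g₃), X.obj.map_comp,
      Subsingleton.elim (g₂ p) (g₂ q ≫ g₃), X.obj.map_comp, IsIso.inv_hom_id_assoc]
  have hcmono : ∀ p, Mono (c p) := fun p => by
    have := h₂ p
    have : Mono (X.obj.map (homOfLE (min_le_left p a)).op) := X.property.1 _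
    exact mono_comp _ _
  let J : ℤ → A := fun k => Injective.under (cokernel (X.obj.map (FilD.stepHom k)))
  let h : ∀ k : ℤ, X.obj.obj (op a) ⟶ J k := fun k =>
    @Injective.factorThru _ _ _ _ _ _ (cokernel.π (X.obj.map (FilD.stepHom k)) ≫ Injective.ι _) (c k) (hcmono k)
  have hh : ∀ k, c k ≫ h k = cokernel.π (X.obj.map (FilD.stepHom k)) ≫ Injective.ι _ := fun k =>
    @Injective.comp_factorThru _ _ _ _ _ _ _ (c k) (hcmono k)
  let s : Finset ℤ := Finset.Icc a b
  have hvan : ∀ {p : ℤ} (k : ℤ), k < p → c p ≫ h k = 0 := by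
    intro p k hk
    rw [← hc (homOfLE (hk : k + 1 ≤ p)).op, ← hc (FilD.stepHom k), Category.assoc, Category.assoc, hh,
      cokernel.condition_assoc, zero_comp, comp_zero]
  let u : X ⟶ ⟨splitFun s J, isFinFil_splitFun s J⟩ := ObjectProperty.homMk
    { app := fun p => biproduct.lift (fun k : Idx s p.unop => c p.unop ≫ h k.1)
      naturality := fun q p g => by
        change X.obj.map g ≫ biproduct.lift (fun k : Idx s p.unop => c p.unop ≫ h k.1) =
          biproduct.lift (fun k : Idx s q.unop => c q.unop ≫ h k.1) ≫ levelMap s J (leOfHom g.unop)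
        refine biproduct.hom_ext _ _ fun k => ?_
        rw [Category.assoc, Category.assoc, biproduct.lift_π, ← Category.assoc, hc]
        by_cases hk : q.unop ≤ (k.1 : ℤ)
        · exact ((congrArg (fun t => biproduct.lift (fun k : Idx s q.unop => c q.unop ≫ h k.1) ≫ t)
            (levelMap_π_idxMap s J (leOfHom g.unop) ⟨k.1, hk⟩)).trans (biproduct.lift_π _ _)).symm
        · rw [levelMap_π s J _ k hk, comp_zero]
          exact hvan _ (not_le.1 hk) }
  refine ⟨_, u, fun p => injective_gr_splitFun s J p, fun p => Preadditive.mono_of_cancel_zero _ fun {W} x hx => ?_⟩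
  by_cases hp : p ∈ s
  · obtain ⟨W', e, he, y, hy⟩ := surjective_up_to_refinements_of_epi (cokernel.π (X.obj.map (FilD.stepHom p))) x
    have h1 : (y ≫ u.hom.app (op p)) ≫ cokernel.π ((splitFun s J).map (FilD.stepHom p)) = 0 :=
      (Category.assoc _ _ _).trans ((congrArg (fun t => y ≫ t) (π_gr_map u.hom p).symm).trans
        ((Category.assoc _ _ _).symm.trans ((congrArg (fun t => t ≫ (FilD.gr A p).map u.hom) hy.symm).trans
          ((Category.assoc _ _ _).trans ((congrArg (fun t => e ≫ t) hx).trans comp_zero)))))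
    obtain ⟨W'', e', he', z, hz⟩ := (exact_step (splitFun s J) p).exact_up_to_refinements _ h1
    have hz' : e' ≫ y ≫ biproduct.lift (fun k : Idx s p => c p ≫ h k.1) = z ≫ levelMap s J (Int.le_add_one le_rfl) := hz
    have h2 := congrArg (fun t => t ≫ biproduct.π (fun k : Idx s p => J k.1) (⟨⟨p, hp⟩, le_rfl⟩ : Idx s p)) hz'
    have h3 : e' ≫ y ≫ cokernel.π (X.obj.map (FilD.stepHom p)) ≫ Injective.ι _ = 0 := by
      rw [← hh]
      simp only [Category.assoc, biproduct.lift_π] at h2
      have h4 := levelMap_π s J (Int.le_add_one le_rfl : p ≤ p + 1) (⟨⟨p, hp⟩, le_rfl⟩ : Idx s p)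
        (show ¬ p + 1 ≤ ((⟨p, hp⟩ : s) : ℤ) by simp)
      have h6 : (z ≫ levelMap s J (Int.le_add_one le_rfl)) ≫ biproduct.π (fun k : Idx s p => J k.1) ⟨⟨p, hp⟩, le_rfl⟩ = 0 :=
        (Category.assoc _ _ _).trans ((congrArg (fun t => z ≫ t) h4).trans comp_zero)
      simp only [Category.assoc] at h6
      exact h2.trans (by first | exact h6 | exact (Category.assoc _ _ _).trans h6)
    have h5 : e' ≫ y ≫ cokernel.π (X.obj.map (FilD.stepHom p)) = 0 := by
      rw [← cancel_mono (Injective.ι (cokernel (X.obj.map (FilD.stepHom p)))), zero_comp]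
      simpa only [Category.assoc] using h3
    refine (cancel_epi (e' ≫ e)).1 (Eq.trans ?_ comp_zero.symm)
    exact (Category.assoc _ _ _).trans ((congrArg (fun t => e' ≫ t) hy).trans h5)
  · have hz : IsZero (cokernel (X.obj.map (FilD.stepHom p))) := by
      by_cases hpa : p < a
      · have := ha (FilD.stepHom p) (show p + 1 ≤ a by omega)
        exact isZero_cokernel_of_epi _
      · refine IsZero.of_epi (cokernel.π _) (hb p ?_)
        simp only [s, Finset.mem_Icc, not_and, not_le] at hp
        exact (hp (not_lt.1 hpa)).le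
    exact hz.eq_of_tgt _ _

end Groth.Agent.FilDLib
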