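import Mathlib
import Groth.Agent.FilDLib.GrExact

/-!
Truncations of complexes of finite filtered objects.
-/

set_option autoImplicit false

universe v u

open CategoryTheory CategoryTheory.Limits Opposite

namespace Groth.Agent.FilDLib

variable {A : Type u} [Category.{v} A] [Abelian A]

theorem exact_of_forall_app (S : ShortComplex (ℤᵒᵖ ⥤ A))
    (h : ∀ p : ℤ, (S.map ((evaluation ℤᵒᵖ A).obj (op p))).Exact) : S.Exact := by
  rw [ShortComplex.exact_iff_isZero_homology, Functor.isZero_iff]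
  exact fun q => (ShortComplex.exact_iff_isZero_homology _).1 (h q.unop) |>.of_iso
    (S.mapHomologyIso ((evaluation ℤᵒᵖ A).obj q)).symm

theorem isFinFil_of_iso {F G : ℤᵒᵖ ⥤ A} (e : F ≅ G) (hF : FilD.IsFinFil A F) : FilD.IsFinFil A G := by
  have hnat : ∀ {p q : ℤᵒᵖ} (g : p ⟶ q), G.map g = e.inv.app p ≫ F.map g ≫ e.hom.app q := fun g => by
    rw [e.hom.naturality, ← Category.assoc, ← NatTrans.comp_app, e.inv_hom_id, NatTrans.id_app, Category.id_comp]
  refine ⟨fun p q g => ?_, ?_, ?_⟩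
  · have := hF.1 g
    rw [hnat]; infer_instance
  · obtain ⟨b, hb⟩ := hF.2.1
    exact ⟨b, fun p hp => (hb p hp).of_iso (e.app (op p)).symm⟩
  · obtain ⟨a, ha⟩ := hF.2.2
    refine ⟨a, fun p q g hg => ?_⟩
    have := ha g hg
    rw [hnat]; infer_instance

theorem isFinFil_of_isZero {Z : ℤᵒᵖ ⥤ A} (hZ : IsZero Z) : FilD.IsFinFil A Z := by
  have hz : ∀ q, IsZero (Z.obj q) := (Functor.isZero_iff Z).1 hZ
  exact ⟨fun p _ g => ⟨fun _ _ _ => (hz p).eq_of_tgt _ _⟩, ⟨0, fun p _ => hz _⟩,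
    ⟨0, fun p q g _ => ⟨0, (hz p).eq_of_src _ _, (hz q).eq_of_src _ _⟩⟩⟩

/-- The cokernel of a strict morphism is finite filtered. -/
theorem isFinFil_of_strict_cokernel {F G : FilD.FilF A} (f : F ⟶ G) (hf : FilD.IsStrict f) {Q : ℤᵒᵖ ⥤ A}
    (π : G.obj ⟶ Q) (hπ : Epi π) (w : f.hom ≫ π = 0) (hS : (ShortComplex.mk f.hom π w).Exact) : FilD.IsFinFil A Q := by
  have hmono : ∀ ⦃p q : ℤᵒᵖ⦄ (g : p ⟶ q), Mono (Q.map g) := by
    intro p q g
    refine Preadditive.mono_of_cancel_zero _ fun {W} x hx => ?_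
    obtain ⟨W₁, e₁, he₁, y, hy⟩ := surjective_up_to_refinements_of_epi (π.app p) x
    have h1 : (y ≫ G.obj.map g) ≫ π.app q = 0 := by
      rw [Category.assoc, π.naturality, ← Category.assoc, ← hy, Category.assoc, hx, comp_zero]
    obtain ⟨W₂, e₂, he₂, w', hw⟩ := (hS.map ((evaluation ℤᵒᵖ A).obj q)).exact_up_to_refinements _ h1
    have hle : q.unop ≤ p.unop := leOfHom g.unop
    obtain ⟨W₃, e₃, he₃, y', hy'⟩ := (isStrict_iff f).1 hf q.unop p.unop hle (e₂ ≫ y) w'
      (((hw.symm.trans (Category.assoc e₂ y (G.obj.map g)).symm)).trans (congrArg (fun t => _ ≫ G.obj.map t) (Subsingleton.elim _ _)))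
    refine (cancel_epi (e₃ ≫ e₂ ≫ e₁)).1 ?_
    rw [comp_zero, Category.assoc, Category.assoc, hy, ← Category.assoc e₂ y, ← Category.assoc e₃ _ (π.app p), hy',
      Category.assoc, ← NatTrans.comp_app, w, zero_app, comp_zero]
  refine ⟨hmono, ?_, ?_⟩
  · obtain ⟨b, hb⟩ := G.property.2.1
    exact ⟨b, fun p hp => IsZero.of_epi (π.app (op p)) (hb p hp)⟩
  · obtain ⟨a, ha⟩ := G.property.2.2
    refine ⟨a, fun p q g hp => ?_⟩
    have := ha g hp
    have := hmono g
    have h2 : Epi (G.obj.map g ≫ π.app q) := epi_comp _ _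
    rw [π.naturality] at h2
    have : Epi (Q.map g) := epi_of_epi (π.app p) (Q.map g)
    exact isIso_of_mono_of_epi _

/-- The kernel of a morphism is finite filtered. -/
theorem isFinFil_of_kernel {F G : FilD.FilF A} (f : F ⟶ G) {Q : ℤᵒᵖ ⥤ A}
    (ι : Q ⟶ F.obj) (hι : Mono ι) (w : ι ≫ f.hom = 0) (hS : (ShortComplex.mk ι f.hom w).Exact) : FilD.IsFinFil A Q := by
  have hmono : ∀ ⦃p q : ℤᵒᵖ⦄ (g : p ⟶ q), Mono (Q.map g) := by
    intro p q g
    have := F.property.1 g
    have h2 : Mono (ι.app p ≫ F.obj.map g) := mono_comp _ _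
    rw [← ι.naturality] at h2
    exact mono_of_mono (Q.map g) (ι.app q)
  refine ⟨hmono, ?_, ?_⟩
  · obtain ⟨b, hb⟩ := F.property.2.1
    exact ⟨b, fun p hp => IsZero.of_mono (ι.app (op p)) (hb p hp)⟩
  · obtain ⟨a, ha⟩ := F.property.2.2
    refine ⟨a, fun p q g hp => ?_⟩
    have := ha g hp
    have := hmono g
    have := G.property.1 g
    have : Epi (Q.map g) := by
      rw [epi_iff_surjective_up_to_refinements]
      intro W z
      have h0 : ((z ≫ ι.app q) ≫ inv (F.obj.map g)) ≫ f.hom.app p = 0 := by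
        rw [← cancel_mono (G.obj.map g), zero_comp, Category.assoc _ (f.hom.app p), ← f.hom.naturality]
        simp only [Category.assoc, IsIso.inv_hom_id_assoc]
        rw [← NatTrans.comp_app, w, zero_app, comp_zero]
      obtain ⟨W', e, he, y, hy⟩ := (hS.map ((evaluation ℤᵒᵖ A).obj p)).exact_up_to_refinements _ h0
      refine ⟨W', e, he, y, ?_⟩
      have hy' : e ≫ (z ≫ ι.app q) ≫ inv (F.obj.map g) = y ≫ ι.app p := hy
      rw [← cancel_mono (ι.app q)]
      refine Eq.trans ?_ ((Category.assoc _ _ _).trans ((congrArg (fun t => y ≫ t) (ι.naturality g)).trans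
        ((Category.assoc _ _ _).symm.trans (congrArg (fun t => t ≫ F.obj.map g) hy'.symm)))).symm
      simp only [Category.assoc, IsIso.inv_hom_id, Category.comp_id]
    exact isIso_of_mono_of_epi _

/-- The complex of functors underlying a complex of finite filtered objects. -/
noncomputable abbrev funCx (K : CochainComplex (FilD.FilF A) ℤ) : CochainComplex (ℤᵒᵖ ⥤ A) ℤ :=
  ((FilD.IsFinFil A).ι.mapHomologicalComplex (ComplexShape.up ℤ)).obj K

/-- A complex of functors with finite filtered terms. -/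
@[simps]
def liftCx (L : CochainComplex (ℤᵒᵖ ⥤ A) ℤ) (hL : ∀ n, FilD.IsFinFil A (L.X n)) : CochainComplex (FilD.FilF A) ℤ where
  X n := ⟨L.X n, hL n⟩
  d i j := ObjectProperty.homMk (L.d i j)
  shape i j h := by ext1; exact L.shape i j h
  d_comp_d' i j k _ _ := by ext1; exact L.d_comp_d i j k

theorem exactAt_funCx (K : CochainComplex (FilD.FilF A) ℤ) (n : ℤ) (hK : ∀ p : ℤ, ((FilD.grCx p).obj K).ExactAt n) :
    (funCx K).ExactAt n ∧ FilD.IsStrict (K.d n (n + 1)) ∧ FilD.IsStrict (K.d (n - 1) n) := by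
  let T : ShortComplex (ℤᵒᵖ ⥤ A) := ShortComplex.mk (K.d (n - 1) n).hom (K.d n (n + 1)).hom
    (by rw [← ObjectProperty.FullSubcategory.comp_hom, K.d_comp_d]; rfl)
  have hS : ∀ p : ℤ, (T.map (FilD.gr A p)).Exact := fun p =>
    (((FilD.grCx p).obj K).exactAt_iff' (n - 1) n (n + 1) (CochainComplex.prev ℤ n) (CochainComplex.next ℤ n)).1 (hK p)
  obtain ⟨b, hb⟩ := (K.X n).property.2.1
  have hex := fun r => exact_app T hS (fun _ => (K.X (n + 1)).property.1 _) b hb r
  refine ⟨((funCx K).exactAt_iff' (n - 1) n (n + 1) (CochainComplex.prev ℤ n) (CochainComplex.next ℤ n)).2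
    (exact_of_forall_app T hex), isStrict_of_exact_gr (K.d n (n + 1)) _ T.zero hS, (isStrict_iff _).2 fun p q h W z y hyz => ?_⟩
  have : Mono ((K.X (n + 1)).obj.map (homOfLE h).op) := (K.X (n + 1)).property.1 _
  have hz : z ≫ (K.d n (n + 1)).hom.app (op q) = 0 := by
    rw [← cancel_mono ((K.X (n + 1)).obj.map (homOfLE h).op), zero_comp, Category.assoc, ← (K.d n (n + 1)).hom.naturality,
      ← Category.assoc, ← hyz, Category.assoc, ← NatTrans.comp_app, show (K.d (n - 1) n).hom ≫ (K.d n (n + 1)).hom = 0 from T.zero,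
      zero_app, comp_zero]
  obtain ⟨W', π, hπ, y', hy'⟩ := (hex q).exact_up_to_refinements z hz
  exact ⟨W', π, hπ, y', hy'⟩

/-- The short complex `F^{p+1} ⟶ F^p ⟶ gr^p` of complexes. -/
noncomputable def grSeq (K : CochainComplex (FilD.FilF A) ℤ) (p : ℤ) : ShortComplex (CochainComplex A ℤ) where
  X₁ := (((evaluation ℤᵒᵖ A).obj (op (p + 1))).mapHomologicalComplex _).obj (funCx K)
  X₂ := (((evaluation ℤᵒᵖ A).obj (op p)).mapHomologicalComplex _).obj (funCx K)
  X₃ := (FilD.grCx p).obj K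
  f := { f := fun n => (K.X n).obj.map (FilD.stepHom p), comm' := fun i j _ => ((K.d i j).hom.naturality _) }
  g := { f := fun n => cokernel.π _, comm' := fun i j _ => (π_gr_map (K.d i j).hom p) }
  zero := by ext n; exact cokernel.condition _

theorem grSeq_shortExact (K : CochainComplex (FilD.FilF A) ℤ) (p : ℤ) : (grSeq K p).ShortExact := by
  refine HomologicalComplex.shortExact_of_degreewise_shortExact _ fun n => ?_
  exact { exact := exact_step (K.X n).obj p
          mono_f := (K.X n).property.1 _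
          epi_g := inferInstanceAs (Epi (cokernel.π ((K.X n).obj.map (FilD.stepHom p)))) }

/-- Level-wise quasi-isomorphisms are filtered quasi-isomorphisms. -/
theorem isFilteredQuasiIso_of_quasiIso {K L : CochainComplex (FilD.FilF A) ℤ} (φ : K ⟶ L)
    (h : QuasiIso (((FilD.IsFinFil A).ι.mapHomologicalComplex (ComplexShape.up ℤ)).map φ)) : FilD.IsFilteredQuasiIso φ := by
  intro p
  let Φ : grSeq K p ⟶ grSeq L p :=
    { τ₁ := (((evaluation ℤᵒᵖ A).obj (op (p + 1))).mapHomologicalComplex _).map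
        (((FilD.IsFinFil A).ι.mapHomologicalComplex (ComplexShape.up ℤ)).map φ)
      τ₂ := (((evaluation ℤᵒᵖ A).obj (op p)).mapHomologicalComplex _).map
        (((FilD.IsFinFil A).ι.mapHomologicalComplex (ComplexShape.up ℤ)).map φ)
      τ₃ := (FilD.grCx p).map φ
      comm₁₂ := by ext n; exact ((φ.f n).hom.naturality _).symm
      comm₂₃ := by ext n; exact (π_gr_map (φ.f n).hom p).symm }
  exact HomologicalComplex.HomologySequence.quasiIso_τ₃ Φ (grSeq_shortExact K p) (grSeq_shortExact L p)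
    (inferInstanceAs (QuasiIso ((((evaluation ℤᵒᵖ A).obj (op (p + 1))).mapHomologicalComplex _).map _)))
    (inferInstanceAs (QuasiIso ((((evaluation ℤᵒᵖ A).obj (op p)).mapHomologicalComplex _).map _)))

theorem exists_truncGE (K : CochainComplex (FilD.FilF A) ℤ) (a : ℤ)
    (hK : ∀ (p n : ℤ), n < a → IsZero (((FilD.grCx p).obj K).homology n)) :
    ∃ (L : CochainComplex (FilD.FilF A) ℤ) (φ : K ⟶ L), L.IsStrictlyGE a ∧ FilD.IsFilteredQuasiIso φ := by
  have hex : ∀ (p n : ℤ), n < a → ((FilD.grCx p).obj K).ExactAt n := fun p n hn =>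
    (HomologicalComplex.exactAt_iff_isZero_homology _ _).2 (hK p n hn)
  let Kc := funCx K
  have : Kc.IsGE a := (CochainComplex.isGE_iff Kc a).2 fun n hn => (exactAt_funCx K n fun p => hex p n hn).1
  have hfin : ∀ n, FilD.IsFinFil A ((Kc.truncGE a).X n) := fun n => by
    rcases lt_trichotomy n a with h | rfl | h
    · exact isFinFil_of_isZero ((Kc.truncGE a).isZero_of_isStrictlyGE a n h)
    · refine isFinFil_of_iso (Kc.truncGEXIsoOpcycles n).symm ?_
      have hd := (exactAt_funCx K (n - 1) fun p => hex p (n - 1) (by omega)).2.1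
      rw [sub_add_cancel] at hd
      exact isFinFil_of_strict_cokernel (K.d (n - 1) n) hd (Kc.pOpcycles n) (inferInstanceAs (Epi (HomologicalComplex.pOpcycles Kc n))) (Kc.d_pOpcycles (n - 1) n)
        (ShortComplex.exact_of_g_is_cokernel _ (Kc.opcyclesIsCokernel (n - 1) n (CochainComplex.prev ℤ n)))
    · exact isFinFil_of_iso (Kc.truncGEXIso a n h).symm (K.X n).property
  let φ : K ⟶ liftCx _ hfin :=
    { f := fun n => ObjectProperty.homMk ((Kc.πTruncGE a).f n)
      comm' := fun i j _ => (by ext1; exact (Kc.πTruncGE a).comm i j) }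
  refine ⟨liftCx _ hfin, φ, ?_, ?_⟩
  · rw [← CochainComplex.isStrictlyGE_mapHomologicalComplex_obj_iff _ (FilD.IsFinFil A).ι]
    exact inferInstanceAs ((Kc.truncGE a).IsStrictlyGE a)
  · exact isFilteredQuasiIso_of_quasiIso _ (inferInstanceAs (QuasiIso (Kc.πTruncGE a)))

theorem exists_truncLE (K : CochainComplex (FilD.FilF A) ℤ) (b : ℤ)
    (hK : ∀ (p n : ℤ), b < n → IsZero (((FilD.grCx p).obj K).homology n)) :
    ∃ (M : CochainComplex (FilD.FilF A) ℤ) (φ : M ⟶ K), M.IsStrictlyLE b ∧ FilD.IsFilteredQuasiIso φ := by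
  let Kc := funCx K
  have : Kc.IsLE b := (CochainComplex.isLE_iff Kc b).2 fun n hn =>
    (exactAt_funCx K n fun p => (HomologicalComplex.exactAt_iff_isZero_homology _ _).2 (hK p n hn)).1
  have hfin : ∀ n, FilD.IsFinFil A ((Kc.truncLE b).X n) := fun n => by
    rcases lt_trichotomy b n with h | rfl | h
    · exact isFinFil_of_isZero ((Kc.truncLE b).isZero_of_isStrictlyLE b n h)
    · refine isFinFil_of_iso (Kc.truncLEXIsoCycles b).symm ?_
      exact isFinFil_of_kernel (K.d b (b + 1)) (Kc.iCycles b) (inferInstanceAs (Mono (HomologicalComplex.iCycles Kc b))) (Kc.iCycles_d b (b + 1))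
        (ShortComplex.exact_of_f_is_kernel _ (Kc.cyclesIsKernel b (b + 1) (CochainComplex.next ℤ b)))
    · exact isFinFil_of_iso (Kc.truncLEXIso b n h).symm (K.X n).property
  let φ : liftCx _ hfin ⟶ K :=
    { f := fun n => ObjectProperty.homMk ((Kc.ιTruncLE b).f n)
      comm' := fun i j _ => (by ext1; exact (Kc.ιTruncLE b).comm i j) }
  refine ⟨liftCx _ hfin, φ, ?_, ?_⟩
  · rw [← CochainComplex.isStrictlyLE_mapHomologicalComplex_obj_iff _ (FilD.IsFinFil A).ι]
    exact inferInstanceAs ((Kc.truncLE b).IsStrictlyLE b)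
  · exact isFilteredQuasiIso_of_quasiIso _ (inferInstanceAs (QuasiIso (Kc.ιTruncLE b)))

end Groth.Agent.FilDLib
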