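import Mathlib
import Groth.Agent.FilDLib.Complex
import Groth.Agent.FilDLib.Truncate
import Groth.Agent.FilDLib.Split

/-!
Resolutions of bounded below complexes of finite filtered objects by filtered injectives.
-/

set_option autoImplicit false

universe v u

open CategoryTheory CategoryTheory.Limits Opposite

namespace Groth.Agent.FilDLib

variable {A : Type u} [Category.{v} A] [Abelian A]

theorem exact_app_of_mono_gr {F G : FilD.FilF A} (f : F ⟶ G) (hf : ∀ p : ℤ, Mono ((FilD.gr A p).map f.hom)) :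
    Mono f ∧ FilD.IsStrict f ∧ ∀ q : ℤᵒᵖ, Mono (f.hom.app q) := by
  have hS : ∀ p : ℤ, ((ShortComplex.mk (0 : F.obj ⟶ F.obj) f.hom zero_comp).map (FilD.gr A p)).Exact := fun p =>
    (ShortComplex.exact_iff_mono _ ((FilD.gr A p).map_zero F.obj F.obj)).2 (hf p)
  obtain ⟨b, hb⟩ := F.property.2.1
  have h : ∀ q : ℤᵒᵖ, Mono (f.hom.app q) := fun q =>
    (exact_app (ShortComplex.mk (0 : F.obj ⟶ F.obj) f.hom zero_comp) hS (fun r => G.property.1 _) b hb q.unop).mono_g rfl
  have : Mono f.hom := NatTrans.mono_of_mono_app _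
  exact ⟨(FilD.IsFinFil A).ι.mono_of_mono_map (f := f) ‹_›, isStrict_of_exact_gr f 0 zero_comp hS, h⟩

/-- A strict cokernel gives an exact sequence of graded pieces and an epimorphism on graded pieces. -/
theorem gr_cokernel {F G Q : FilD.FilF A} (f : F ⟶ G) (π : G ⟶ Q) (w : f.hom ≫ π.hom = 0) (hπ : Epi π.hom)
    (hS : (ShortComplex.mk f.hom π.hom w).Exact) (p : ℤ) :
    (∀ {W : A} (y : W ⟶ (FilD.grF A p).obj G), y ≫ (FilD.grF A p).map π = 0 →
      ∃ (W' : A) (e : W' ⟶ W) (_ : Epi e) (z : W' ⟶ (FilD.grF A p).obj F), e ≫ y = z ≫ (FilD.grF A p).map f) ∧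
    Epi ((FilD.grF A p).map π) := by
  have hepi : ∀ r : ℤ, Epi (π.hom.app (op r)) := fun r => inferInstance
  constructor
  · intro W y hy
    obtain ⟨W₁, e₁, he₁, x, hx⟩ := surjective_up_to_refinements_of_epi (cokernel.π (G.obj.map (FilD.stepHom p))) y
    have h1 : (x ≫ π.hom.app (op p)) ≫ cokernel.π (Q.obj.map (FilD.stepHom p)) = 0 :=
      (Category.assoc _ _ _).trans ((congrArg (fun t => x ≫ t) (π_gr_map π.hom p).symm).trans
        ((Category.assoc _ _ _).symm.trans ((congrArg (fun t => t ≫ (FilD.grF A p).map π) hx.symm).trans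
          ((Category.assoc _ _ _).trans ((congrArg (fun t => e₁ ≫ t) hy).trans comp_zero)))))
    obtain ⟨W₂, e₂, he₂, v, hv⟩ := (exact_step Q.obj p).exact_up_to_refinements _ h1
    have := hepi (p + 1)
    obtain ⟨W₃, e₃, he₃, v', hv'⟩ := surjective_up_to_refinements_of_epi (π.hom.app (op (p + 1))) v
    have h2 : (e₃ ≫ e₂ ≫ x - v' ≫ G.obj.map (FilD.stepHom p)) ≫ π.hom.app (op p) = 0 := by
      rw [Preadditive.sub_comp, sub_eq_zero, Category.assoc, Category.assoc, Category.assoc, π.hom.naturality,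
        ← Category.assoc v', ← hv', Category.assoc]
      exact congrArg (fun t => e₃ ≫ t) hv
    obtain ⟨W₄, e₄, he₄, z, hz⟩ := (hS.map ((evaluation ℤᵒᵖ A).obj (op p))).exact_up_to_refinements _ h2
    refine ⟨W₄, e₄ ≫ e₃ ≫ e₂ ≫ e₁, inferInstance, z ≫ cokernel.π _, ?_⟩
    have h3 : (e₄ ≫ e₃ ≫ e₂ ≫ x) ≫ cokernel.π (G.obj.map (FilD.stepHom p)) =
        (z ≫ f.hom.app (op p)) ≫ cokernel.π (G.obj.map (FilD.stepHom p)) := by
      rw [← show e₄ ≫ _ = z ≫ f.hom.app (op p) from hz]
      simp [cokernel.condition]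
    refine Eq.trans (b := (e₄ ≫ e₃ ≫ e₂ ≫ x) ≫ cokernel.π (G.obj.map (FilD.stepHom p))) ?_ (h3.trans ?_)
    · simp only [Category.assoc]
      exact congrArg (fun t => e₄ ≫ e₃ ≫ e₂ ≫ t) hx
    · exact (Category.assoc _ _ _).trans ((congrArg (fun t => z ≫ t) (π_gr_map f.hom p)).symm.trans (Category.assoc _ _ _).symm)
  · have := hepi p
    have h : Epi (cokernel.π (G.obj.map (FilD.stepHom p)) ≫ (FilD.gr A p).map π.hom) := by
      rw [π_gr_map]
      exact @epi_comp _ _ _ _ _ _ this _ coequalizer.π_epi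
    exact epi_of_epi (cokernel.π (G.obj.map (FilD.stepHom p))) ((FilD.gr A p).map π.hom)

theorem exists_emb [EnoughInjectives A] (Q : FilD.FilF A) : ∃ (I : FilD.FilF A) (u : Q ⟶ I),
    FilD.IsFilteredInjective I ∧ (∀ p : ℤ, Mono ((FilD.grF A p).map u)) ∧ (IsZero Q → IsZero I) := by
  by_cases hQ : IsZero Q
  · exact ⟨Q, 𝟙 Q, fun p => ⟨fun _ _ _ => ⟨0, ((FilD.grF A p).map_isZero hQ).eq_of_tgt _ _⟩⟩,
      fun p => by rw [CategoryTheory.Functor.map_id]; infer_instance, id⟩
  · obtain ⟨I, u, hI, hu⟩ := exists_into_split Q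
    exact ⟨I, u, hI, hu, fun h => absurd h hQ⟩

section Build

variable [EnoughInjectives A] (X : ℕ → FilD.FilF A) (d : ∀ k, X k ⟶ X (k + 1))

/-- The chosen embedding object. -/
noncomputable def embI (Q : FilD.FilF A) : FilD.FilF A := (exists_emb Q).choose

/-- The chosen embedding. -/
noncomputable def embU (Q : FilD.FilF A) : Q ⟶ embI Q := (exists_emb Q).choose_spec.choose

theorem embI_injective (Q : FilD.FilF A) : FilD.IsFilteredInjective (embI Q) := (exists_emb Q).choose_spec.choose_spec.1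

theorem mono_embU (Q : FilD.FilF A) (p : ℤ) : Mono ((FilD.grF A p).map (embU Q)) :=
  (exists_emb Q).choose_spec.choose_spec.2.1 p

theorem isZero_embI (Q : FilD.FilF A) (h : IsZero Q) : IsZero (embI Q) := (exists_emb Q).choose_spec.choose_spec.2.2 h

/-- The state of the construction in degree `k`. -/
structure St (k : ℕ) where
  /-- The object to embed. -/
  Q : FilD.FilF A
  /-- The map from the complex. -/
  q : X k ⟶ Q
  /-- The map to the next term of the complex. -/
  r : Q ⟶ X (k + 1)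
  hqr : q ≫ r = d k
  hrd : r ≫ d (k + 1) = 0

variable {X d}

section

variable {k : ℕ} (S : St X d k)

/-- The middle object `X (k+1) ⊕ I k`. -/
noncomputable abbrev mid : BinaryBicone (X (k + 1)) (embI S.Q) := bipBicone _ _

/-- The map into the middle object. -/
noncomputable def mm : S.Q ⟶ (mid S).pt := (-S.r) ≫ (mid S).inl + embU S.Q ≫ (mid S).inr

theorem mm_fst : mm S ≫ (mid S).fst = -S.r := by simp [mm]

theorem mm_snd : mm S ≫ (mid S).snd = embU S.Q := by simp [mm]

theorem mono_gr_mm (p : ℤ) : Mono ((FilD.grF A p).map (mm S)) := by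
  have := mono_embU S.Q p
  have h : Mono ((FilD.grF A p).map (mm S) ≫ (FilD.grF A p).map (mid S).snd) := by
    rw [← Functor.map_comp, mm_snd]; infer_instance
  exact mono_of_mono _ ((FilD.grF A p).map (mid S).snd)

theorem isFinFil_coker_mm : FilD.IsFinFil A (cokernel (mm S).hom) :=
  isFinFil_of_strict_cokernel (mm S) (exact_app_of_mono_gr _ fun p => mono_gr_mm S p).2.1 (cokernel.π _) inferInstance
    (cokernel.condition _) (ShortComplex.exact_of_g_is_cokernel _ (cokernelIsCokernel _))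

/-- The next object to embed. -/
noncomputable def nextQ : FilD.FilF A := ⟨cokernel (mm S).hom, isFinFil_coker_mm S⟩

/-- The projection to the next object. -/
noncomputable def nextπ : (mid S).pt ⟶ nextQ S := ObjectProperty.homMk (cokernel.π (mm S).hom)

@[reassoc]
theorem mm_nextπ : mm S ≫ nextπ S = 0 := by
  ext1
  exact cokernel.condition _

variable (hd : ∀ k, d k ≫ d (k + 1) = 0)

/-- The map from the next object to the complex. -/
noncomputable def nextR : nextQ S ⟶ X (k + 1 + 1) :=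
  ObjectProperty.homMk (cokernel.desc (mm S).hom ((mid S).fst ≫ d (k + 1)).hom (by
    rw [← ObjectProperty.FullSubcategory.comp_hom, ← Category.assoc, mm_fst, Preadditive.neg_comp, S.hrd, neg_zero]
    rfl))

@[reassoc]
theorem nextπ_nextR : nextπ S ≫ nextR S = (mid S).fst ≫ d (k + 1) := by
  ext1
  exact cokernel.π_desc _ _ _

include hd in
theorem nextR_d : nextR S ≫ d (k + 1 + 1) = 0 := by
  ext1
  refine coequalizer.hom_ext ?_
  have h : nextπ S ≫ nextR S ≫ d (k + 1 + 1) = 0 := by rw [nextπ_nextR_assoc, hd, comp_zero]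
  exact (congrArg InducedCategory.Hom.hom h).trans comp_zero.symm

/-- The next state. -/
noncomputable abbrev next : St X d (k + 1) where
  Q := nextQ S
  q := (mid S).inl ≫ nextπ S
  r := nextR S
  hqr := by rw [Category.assoc, nextπ_nextR, BinaryBicone.inl_fst_assoc]
  hrd := nextR_d S hd

/-- The differential out of the embedded object. -/
noncomputable def dI : embI S.Q ⟶ embI (nextQ S) := (mid S).inr ≫ nextπ S ≫ embU (nextQ S)

/-- The augmentation in the next degree. -/
noncomputable def φI : X (k + 1) ⟶ embI (nextQ S) := (mid S).inl ≫ nextπ S ≫ embU (nextQ S)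

theorem embU_inr_nextπ : embU S.Q ≫ (mid S).inr ≫ nextπ S = S.r ≫ (mid S).inl ≫ nextπ S := by
  have h := mm_nextπ S
  rw [mm, Preadditive.add_comp, Preadditive.neg_comp, Preadditive.neg_comp, neg_add_eq_zero] at h
  simpa using h.symm

theorem q_dI : (S.q ≫ embU S.Q) ≫ dI S = d k ≫ φI S := by
  rw [dI, φI, Category.assoc, ← Category.assoc (mid S).inr, ← Category.assoc (embU _), embU_inr_nextπ, ← S.hqr]
  simp only [Category.assoc]

include hd in
theorem dI_dI : dI S ≫ dI (next S hd) = 0 := by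
  rw [dI, dI, Category.assoc, Category.assoc, ← Category.assoc (mid (next S hd)).inr, ← Category.assoc (embU _),
    show embU (nextQ S) ≫ (mid (next S hd)).inr ≫ nextπ (next S hd) =
      nextR S ≫ (mid (next S hd)).inl ≫ nextπ (next S hd) from embU_inr_nextπ (next S hd)]
  simp only [← Category.assoc]
  have h : ((mid S).inr ≫ nextπ S) ≫ nextR S = 0 := by
    rw [Category.assoc, nextπ_nextR, BinaryBicone.inr_fst_assoc, zero_comp]
  rw [h]
  simp

section Exactness

variable (p : ℤ)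

local notation "G" => FilD.grF A p

omit hd in
theorem gr_total {W : A} (c : W ⟶ (G).obj (mid S).pt) :
    c = (c ≫ (G).map (mid S).fst) ≫ (G).map (mid S).inl + (c ≫ (G).map (mid S).snd) ≫ (G).map (mid S).inr := by
  have h : (mid S).fst ≫ (mid S).inl + (mid S).snd ≫ (mid S).inr = 𝟙 _ := by
    ext q
    exact biprod.total
  simp only [Category.assoc, ← Functor.map_comp, ← Preadditive.comp_add, ← Functor.map_add, h,
    CategoryTheory.Functor.map_id, Category.comp_id]

theorem gr_next :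
    (∀ {W : A} (y : W ⟶ (G).obj (mid S).pt), y ≫ (G).map (nextπ S) = 0 →
      ∃ (W' : A) (e : W' ⟶ W) (_ : Epi e) (z : W' ⟶ (G).obj S.Q), e ≫ y = z ≫ (G).map (mm S)) ∧
    Epi ((G).map (nextπ S)) :=
  gr_cokernel (mm S) (nextπ S) (cokernel.condition _) (coequalizer.π_epi)
    (ShortComplex.exact_of_g_is_cokernel _ (cokernelIsCokernel _)) p

theorem ker_dI {W : A} (y : W ⟶ (G).obj (embI S.Q)) (hy : y ≫ (G).map (dI S) = 0) :
    ∃ (W' : A) (e : W' ⟶ W) (_ : Epi e) (z : W' ⟶ (G).obj S.Q),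
      z ≫ (G).map S.r = 0 ∧ e ≫ y = z ≫ (G).map (embU S.Q) := by
  have := mono_embU (nextQ S) p
  have h0 : (y ≫ (G).map (mid S).inr) ≫ (G).map (nextπ S) = 0 := by
    rw [← cancel_mono ((G).map (embU (nextQ S))), zero_comp]
    rw [dI, Functor.map_comp, Functor.map_comp] at hy
    simpa only [Category.assoc] using hy
  obtain ⟨W', e, he, z, hz⟩ := (gr_next S p).1 _ h0
  refine ⟨W', e, he, z, ?_, ?_⟩
  · have h := congrArg (fun t => t ≫ (G).map (mid S).fst) hz
    simp only [Category.assoc] at h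
    rw [← Functor.map_comp, ← Functor.map_comp, mm_fst, BinaryBicone.inr_fst, Functor.map_zero, comp_zero, comp_zero,
      Functor.map_neg, Preadditive.comp_neg] at h
    exact neg_eq_zero.1 h.symm
  · have h := congrArg (fun t => t ≫ (G).map (mid S).snd) hz
    simp only [Category.assoc] at h
    rw [← Functor.map_comp, ← Functor.map_comp, mm_snd, BinaryBicone.inr_snd, CategoryTheory.Functor.map_id,
      Category.comp_id] at h
    exact h

theorem exists_decomp {W : A} (z : W ⟶ (G).obj (nextQ S)) :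
    ∃ (W' : A) (e : W' ⟶ W) (_ : Epi e) (x : W' ⟶ (G).obj (X (k + 1))) (w : W' ⟶ (G).obj (embI S.Q)),
      e ≫ z = x ≫ (G).map ((mid S).inl ≫ nextπ S) + w ≫ (G).map ((mid S).inr ≫ nextπ S) ∧
      e ≫ z ≫ (G).map (nextR S) = x ≫ (G).map (d (k + 1)) := by
  have := (gr_next S p).2
  obtain ⟨W', e, he, c, hc⟩ := surjective_up_to_refinements_of_epi ((G).map (nextπ S)) z
  refine ⟨W', e, he, c ≫ (G).map (mid S).fst, c ≫ (G).map (mid S).snd, ?_, ?_⟩
  · refine hc.trans ?_
    conv_lhs => rw [gr_total S p c]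
    simp only [Preadditive.add_comp, Category.assoc, Functor.map_comp]
  · rw [← Category.assoc, hc, Category.assoc, ← Functor.map_comp, nextπ_nextR, Functor.map_comp, ← Category.assoc]

theorem mono_next (hgen : ∀ {W : A} (z : W ⟶ (G).obj S.Q), ∃ (W' : A) (e : W' ⟶ W) (_ : Epi e)
      (x : W' ⟶ (G).obj (X k)), e ≫ z ≫ (G).map S.r = x ≫ (G).map (d k))
    {W : A} (x : W ⟶ (G).obj (X (k + 1))) (w : W ⟶ (G).obj (embI S.Q))
    (h : x ≫ (G).map (φI S) = w ≫ (G).map (dI S)) :
    ∃ (W' : A) (e : W' ⟶ W) (_ : Epi e) (x' : W' ⟶ (G).obj (X k)), e ≫ x = x' ≫ (G).map (d k) := by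
  have := mono_embU (nextQ S) p
  have h0 : (x ≫ (G).map (mid S).inl - w ≫ (G).map (mid S).inr) ≫ (G).map (nextπ S) = 0 := by
    rw [← cancel_mono ((G).map (embU (nextQ S))), zero_comp, Preadditive.sub_comp, Preadditive.sub_comp, sub_eq_zero]
    simp only [Category.assoc]
    rw [φI, dI, Functor.map_comp, Functor.map_comp, Functor.map_comp, Functor.map_comp] at h
    exact h
  obtain ⟨W₁, e₁, he₁, z, hz⟩ := (gr_next S p).1 _ h0
  obtain ⟨W₂, e₂, he₂, x', hx'⟩ := hgen z
  have h1 := congrArg (fun t => t ≫ (G).map (mid S).fst) hz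
  simp only [Category.assoc, Preadditive.sub_comp] at h1
  rw [← Functor.map_comp, ← Functor.map_comp, ← Functor.map_comp, BinaryBicone.inl_fst, BinaryBicone.inr_fst,
    CategoryTheory.Functor.map_id, Category.comp_id, Functor.map_zero, comp_zero, sub_zero, mm_fst, Functor.map_neg,
    Preadditive.comp_neg] at h1
  refine ⟨W₂, e₂ ≫ e₁, inferInstance, -x', ?_⟩
  rw [Category.assoc, h1, Preadditive.comp_neg, hx', Preadditive.neg_comp]

include hd in
theorem epi_next {W : A} (y : W ⟶ (G).obj (embI (nextQ S))) (hy : y ≫ (G).map (dI (next S hd)) = 0) :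
    ∃ (W' : A) (e : W' ⟶ W) (_ : Epi e) (x : W' ⟶ (G).obj (X (k + 1))) (_ : x ≫ (G).map (d (k + 1)) = 0)
      (w : W' ⟶ (G).obj (embI S.Q)), e ≫ y = x ≫ (G).map (φI S) + w ≫ (G).map (dI S) := by
  obtain ⟨W₁, e₁, he₁, z, hz, hz'⟩ := ker_dI (next S hd) p y hy
  obtain ⟨W₂, e₂, he₂, x, w, h, hr⟩ := exists_decomp S p z
  refine ⟨W₂, e₂ ≫ e₁, inferInstance, x, ?_, w, ?_⟩
  · rw [← hr, show z ≫ (G).map (nextR S) = 0 from hz, comp_zero]
  · rw [Category.assoc, hz', ← Category.assoc, h, Preadditive.add_comp, Category.assoc, Category.assoc,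
      ← Functor.map_comp, ← Functor.map_comp, φI, dI, Category.assoc, Category.assoc]

end Exactness

end

variable (X d) (hd : ∀ k, d k ≫ d (k + 1) = 0)

/-- All states. -/
noncomputable def st : ∀ k, St X d k
  | 0 => ⟨X 0, 𝟙 _, d 0, Category.id_comp _, hd 0⟩
  | k + 1 => next (st k) hd

/-- The objects of the resolution. -/
noncomputable abbrev resI (k : ℕ) : FilD.FilF A := embI (st X d hd k).Q

/-- The differential of the resolution. -/
noncomputable def resD (k : ℕ) : resI X d hd k ⟶ resI X d hd (k + 1) := dI (st X d hd k)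

/-- The augmentation. -/
noncomputable def resφ (k : ℕ) : X k ⟶ resI X d hd k := (st X d hd k).q ≫ embU (st X d hd k).Q

theorem resφ_succ (k : ℕ) : resφ X d hd (k + 1) = φI (st X d hd k) := Category.assoc _ _ _

theorem resφ_resD (k : ℕ) : resφ X d hd k ≫ resD X d hd k = d k ≫ resφ X d hd (k + 1) :=
  (q_dI (st X d hd k)).trans (congrArg (fun t => d k ≫ t) (resφ_succ X d hd k).symm)

theorem resD_resD (k : ℕ) : resD X d hd k ≫ resD X d hd (k + 1) = 0 := dI_dI (st X d hd k) hd

theorem gen_r (p : ℤ) : ∀ (k : ℕ) {W : A} (z : W ⟶ (FilD.grF A p).obj (st X d hd k).Q),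
    ∃ (W' : A) (e : W' ⟶ W) (_ : Epi e) (x : W' ⟶ (FilD.grF A p).obj (X k)),
      e ≫ z ≫ (FilD.grF A p).map (st X d hd k).r = x ≫ (FilD.grF A p).map (d k)
  | 0, W, z => ⟨W, 𝟙 W, inferInstance, z, Category.id_comp _⟩
  | k + 1, W, z => by
    obtain ⟨W', e, he, x, w, -, h⟩ := exists_decomp (st X d hd k) p z
    exact ⟨W', e, he, x, h⟩

/-- The resolution, indexed by natural numbers. -/
noncomputable def resCx : CochainComplex (FilD.FilF A) ℕ :=
  CochainComplex.of (resI X d hd) (resD X d hd) (resD_resD X d hd)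

end Build

theorem transport_eq {C : Type*} [Category C] [Preadditive C] {W' W Y I J Z Z' : C} (e : W' ⟶ W) (y : W ⟶ Y) (a : Y ⟶ I)
    (a' : I ⟶ Y) (x : W' ⟶ Z) (f : Z ⟶ I) (w : W' ⟶ J) (g : J ⟶ I) (b' : J ⟶ Z') (b : Z' ⟶ J)
    (h : e ≫ y ≫ a = x ≫ f + w ≫ g) (ha : a ≫ a' = 𝟙 Y) (hb : b' ≫ b = 𝟙 J) :
    e ≫ y = x ≫ f ≫ a' + (w ≫ b') ≫ b ≫ g ≫ a' := by
  have h' := congrArg (fun t => t ≫ a') h
  simp only [Category.assoc, Preadditive.add_comp, ha, Category.comp_id] at h'
  simpa only [Category.assoc, reassoc_of% hb] using h'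

section Main

variable [EnoughInjectives A] (K : CochainComplex (FilD.FilF A) ℤ) (a : ℤ)

/-- The terms of `K` from degree `a` on. -/
abbrev kX (k : ℕ) : FilD.FilF A := K.X (a + k)

/-- The differentials of `K` from degree `a` on. -/
abbrev kD (k : ℕ) : kX K a k ⟶ kX K a (k + 1) := K.d _ _

theorem kD_kD (k : ℕ) : kD K a k ≫ kD K a (k + 1) = 0 := K.d_comp_d _ _ _

/-- The augmentation, indexed by natural numbers. -/
noncomputable def augN : K.restriction (ComplexShape.embeddingUpIntGE a) ⟶ resCx (kX K a) (kD K a) (kD_kD K a) where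
  f k := resφ (kX K a) (kD K a) (kD_kD K a) k
  comm' i j h := by
    obtain rfl : i + 1 = j := h
    simp only [resCx, CochainComplex.of_d]
    exact resφ_resD _ _ _ i

variable [K.IsStrictlyGE a]

theorem hasLift_augN : (ComplexShape.embeddingUpIntGE a).HasLift (augN K a) := by
  intro j hj i' hi'
  rw [ComplexShape.boundaryGE_embeddingUpIntGE_iff] at hj
  subst hj
  have h : i' < a := by
    change i' + 1 = a + ((0 : ℕ) : ℤ) at hi'
    omega
  exact (K.isZero_of_isStrictlyGE a i' h).eq_of_src _ _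

/-- The resolution. -/
noncomputable abbrev res : CochainComplex (FilD.FilF A) ℤ :=
  (resCx (kX K a) (kD K a) (kD_kD K a)).extend (ComplexShape.embeddingUpIntGE a)

/-- The augmentation. -/
noncomputable def aug : K ⟶ res K a :=
  (ComplexShape.embeddingUpIntGE a).liftExtend (augN K a) (hasLift_augN K a)

/-- Comparison of the terms. -/
noncomputable abbrev eIso (k : ℕ) : (res K a).X (a + k) ≅ resI (kX K a) (kD K a) (kD_kD K a) k :=
  (resCx (kX K a) (kD K a) (kD_kD K a)).extendXIso (ComplexShape.embeddingUpIntGE a) rfl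

theorem aug_f (k : ℕ) : (aug K a).f (a + k) = resφ (kX K a) (kD K a) (kD_kD K a) k ≫ (eIso K a k).inv := by
  exact (ComplexShape.Embedding.liftExtend_f (ComplexShape.embeddingUpIntGE a) (augN K a) (hasLift_augN K a)
    (rfl : (ComplexShape.embeddingUpIntGE a).f k = (ComplexShape.embeddingUpIntGE a).f k)).trans (Category.id_comp _)

theorem res_d (k : ℕ) : (res K a).d (a + k) (a + (k + 1 : ℕ)) =
    (eIso K a k).hom ≫ resD (kX K a) (kD K a) (kD_kD K a) k ≫ (eIso K a (k + 1)).inv := by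
  refine ((resCx (kX K a) (kD K a) (kD_kD K a)).extend_d_eq (ComplexShape.embeddingUpIntGE a)
    (rfl : (ComplexShape.embeddingUpIntGE a).f k = (ComplexShape.embeddingUpIntGE a).f k)
    (rfl : (ComplexShape.embeddingUpIntGE a).f (k + 1) = (ComplexShape.embeddingUpIntGE a).f (k + 1))).trans ?_
  simp only [resCx, CochainComplex.of_d]
  rfl

instance isStrictlyGE_res : (res K a).IsStrictlyGE a := inferInstance

theorem injective_res (n : ℤ) : FilD.IsFilteredInjective ((res K a).X n) := by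
  intro p
  by_cases h : ∃ k : ℕ, a + k = n
  · obtain ⟨k, rfl⟩ := h
    exact Injective.of_iso ((FilD.grF A p).mapIso (eIso K a k)).symm (embI_injective _ p)
  · have hz : IsZero ((res K a).X n) := HomologicalComplex.isZero_extend_X _ _ n fun k hk => h ⟨k, hk⟩
    exact ⟨fun _ _ _ => ⟨0, ((FilD.grF A p).map_isZero hz).eq_of_tgt _ _⟩⟩

theorem quasiIsoAt_aug (p : ℤ) (k : ℕ) : QuasiIsoAt ((FilD.grCx p).map (aug K a)) (a + k) := by
  rw [quasiIsoAt_iff_isIso_homologyMap]
  let G := FilD.grF A p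
  have hφ : ∀ k : ℕ, G.map ((aug K a).f (a + k)) =
      G.map (resφ (kX K a) (kD K a) (kD_kD K a) k) ≫ G.map (eIso K a k).inv := fun k => by
    rw [aug_f, Functor.map_comp]
  have hd : ∀ k : ℕ, G.map ((res K a).d (a + k) (a + (k + 1 : ℕ))) =
      G.map (eIso K a k).hom ≫ G.map (resD (kX K a) (kD K a) (kD_kD K a) k) ≫ G.map (eIso K a (k + 1)).inv := fun k => by
    rw [res_d, Functor.map_comp, Functor.map_comp]
  have hnext : (ComplexShape.up ℤ).next (a + k) = a + (k + 1 : ℕ) := (CochainComplex.next ℤ _).trans (by omega)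
  have hker : ∀ (k : ℕ) {W : A} (y : W ⟶ G.obj ((res K a).X (a + k))),
      y ≫ G.map ((res K a).d (a + k) (a + (k + 1 : ℕ))) = 0 →
      (y ≫ G.map (eIso K a k).hom) ≫ G.map (resD (kX K a) (kD K a) (kD_kD K a) k) = 0 := fun k W y hy => by
    rw [hd] at hy
    rw [← cancel_mono (G.map (eIso K a (k + 1)).inv), zero_comp]
    simpa only [Category.assoc] using hy
  let S := fun k => st (kX K a) (kD K a) (kD_kD K a) k
  have hi : ∀ k : ℕ, G.map (eIso K a k).inv ≫ G.map (eIso K a k).hom = 𝟙 _ := fun k => by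
    rw [← Functor.map_comp, Iso.inv_hom_id, CategoryTheory.Functor.map_id]
  have hi' : ∀ k : ℕ, G.map (eIso K a k).hom ≫ G.map (eIso K a k).inv = 𝟙 _ := fun k => by
    rw [← Functor.map_comp, Iso.hom_inv_id, CategoryTheory.Functor.map_id]
  have hmono : ∀ (W : A) (x : W ⟶ G.obj (K.X (a + (0 : ℕ)))), x ≫ G.map ((aug K a).f (a + (0 : ℕ))) = 0 → x = 0 := by
    intro W x h
    have := mono_embU (kX K a 0) p
    have h' := congrArg (fun t => t ≫ G.map (eIso K a 0).hom) h
    simp only [hφ, Category.assoc, hi, Category.comp_id, zero_comp] at h'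
    refine (cancel_mono (G.map (embU (kX K a 0)))).1 (Eq.trans ?_ zero_comp.symm)
    refine Eq.trans ?_ h'
    refine congrArg (fun t => x ≫ t) (congrArg G.map ?_)
    exact (Category.id_comp _).symm
  have kmono : ∀ (k : ℕ) (W : A) (x : W ⟶ G.obj (K.X (a + (k + 1 : ℕ)))) (y₁ : W ⟶ G.obj ((res K a).X (a + k))),
      x ≫ G.map ((aug K a).f (a + (k + 1 : ℕ))) = y₁ ≫ G.map ((res K a).d (a + k) (a + (k + 1 : ℕ))) →
      ∃ (W' : A) (e : W' ⟶ W) (_ : Epi e) (x' : W' ⟶ G.obj (K.X (a + k))),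
        e ≫ x = x' ≫ G.map (K.d (a + k) (a + (k + 1 : ℕ))) := by
    intro k W x y₁ h
    have h' := congrArg (fun t => t ≫ G.map (eIso K a (k + 1)).hom) h
    simp only [hφ, hd, Category.assoc, hi, Category.comp_id] at h'
    exact mono_next (S k) p (gen_r _ _ _ p k) x (y₁ ≫ G.map (eIso K a k).hom)
      ((congrArg (fun t => x ≫ G.map t) (resφ_succ _ _ _ k)).symm.trans (h'.trans (Category.assoc _ _ _).symm))
  have kepi₀ : ∀ (W : A) (y : W ⟶ G.obj ((res K a).X (a + (0 : ℕ)))),
      y ≫ G.map ((res K a).d (a + (0 : ℕ)) (a + (0 + 1 : ℕ))) = 0 →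
      ∃ (W' : A) (e : W' ⟶ W) (_ : Epi e) (x : W' ⟶ G.obj (K.X (a + (0 : ℕ))))
        (_ : x ≫ G.map (K.d (a + (0 : ℕ)) (a + (0 + 1 : ℕ))) = 0),
        e ≫ y = x ≫ G.map ((aug K a).f (a + (0 : ℕ))) := by
    intro W y hy
    obtain ⟨W', e, he, z, hz, hz'⟩ := ker_dI (S 0) p _ (hker 0 y hy)
    refine ⟨W', e, he, z, hz, ?_⟩
    have h := congrArg (fun t => t ≫ G.map (eIso K a 0).inv) hz'
    have h2 : G.map (resφ (kX K a) (kD K a) (kD_kD K a) 0) = G.map (embU (S 0).Q) :=
      congrArg G.map (Category.id_comp _)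
    rw [hφ, h2]
    simp only [Category.assoc] at h
    refine Eq.trans ?_ (h.trans rfl)
    exact (congrArg (fun t => e ≫ t) ((congrArg (fun t => y ≫ t) (hi' 0)).trans (Category.comp_id _))).symm
  have kepi : ∀ (k : ℕ) (W : A) (y : W ⟶ G.obj ((res K a).X (a + (k + 1 : ℕ)))),
      y ≫ G.map ((res K a).d (a + (k + 1 : ℕ)) (a + (k + 1 + 1 : ℕ))) = 0 →
      ∃ (W' : A) (e : W' ⟶ W) (_ : Epi e) (x : W' ⟶ G.obj (K.X (a + (k + 1 : ℕ))))
        (_ : x ≫ G.map (K.d (a + (k + 1 : ℕ)) (a + (k + 1 + 1 : ℕ))) = 0) (y₁ : W' ⟶ G.obj ((res K a).X (a + k))),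
        e ≫ y = x ≫ G.map ((aug K a).f (a + (k + 1 : ℕ))) + y₁ ≫ G.map ((res K a).d (a + k) (a + (k + 1 : ℕ))) := by
    intro k W y hy
    obtain ⟨W', e, he, x, hx, w, h⟩ := epi_next (S k) (kD_kD K a) p _ (hker (k + 1) y hy)
    refine ⟨W', e, he, x, hx, w ≫ G.map (eIso K a k).inv, ?_⟩
    rw [hφ, hd, resφ_succ]
    exact transport_eq e y _ _ x _ w _ _ _ h (hi' (k + 1)) (hi k)
  have : Mono (HomologicalComplex.homologyMap ((FilD.grCx p).map (aug K a)) (a + k)) := by
    cases k with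
    | zero =>
      rw [HomologicalComplex.mono_homologyMap_iff_up_to_refinements _ (a - 1) _ _ ((CochainComplex.prev ℤ _).trans (by simp)) hnext]
      intro W x _ y₁ h
      refine ⟨W, 𝟙 W, inferInstance, 0, ?_⟩
      have h0 : y₁ = 0 :=
        (G.map_isZero ((res K a).isZero_of_isStrictlyGE a (a - 1) (by omega))).eq_of_tgt _ _
      rw [h0, zero_comp] at h
      exact ((congrArg (fun t => 𝟙 W ≫ t) (hmono W x h)).trans comp_zero).trans zero_comp.symm
    | succ k =>
      rw [HomologicalComplex.mono_homologyMap_iff_up_to_refinements _ (a + k) _ _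
        ((CochainComplex.prev ℤ _).trans (by push_cast; ring)) hnext]
      intro W x _ y₁ h
      exact kmono k W x y₁ h
  have : Epi (HomologicalComplex.homologyMap ((FilD.grCx p).map (aug K a)) (a + k)) := by
    cases k with
    | zero =>
      rw [HomologicalComplex.epi_homologyMap_iff_up_to_refinements _ (a - 1) _ _ ((CochainComplex.prev ℤ _).trans (by simp)) hnext]
      intro W y hy
      obtain ⟨W', e, he, x, hx, h⟩ := kepi₀ W y hy
      exact ⟨W', e, he, x, hx, 0, h.trans ((congrArg (fun t => _ + t) zero_comp).trans (add_zero _)).symm⟩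
    | succ k =>
      rw [HomologicalComplex.epi_homologyMap_iff_up_to_refinements _ (a + k) _ _
        ((CochainComplex.prev ℤ _).trans (by push_cast; ring)) hnext]
      intro W y hy
      exact kepi k W y hy
  exact isIso_of_mono_of_epi _

theorem isFilteredQuasiIso_aug : FilD.IsFilteredQuasiIso (aug K a) := by
  intro p
  rw [quasiIso_iff]
  intro n
  by_cases h : a ≤ n
  · obtain ⟨k, rfl⟩ := Int.le.dest h
    exact quasiIsoAt_aug K a p k
  · rw [quasiIsoAt_iff_exactAt _ _ (HomologicalComplex.exactAt_iff_isZero_homology _ _ |>.2 ?_)]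
    · exact ShortComplex.exact_of_isZero_X₂ _ ((FilD.grF A p).map_isZero ((res K a).isZero_of_isStrictlyGE a n (by omega)))
    · exact (ShortComplex.exact_iff_isZero_homology _).1
        (ShortComplex.exact_of_isZero_X₂ _ ((FilD.grF A p).map_isZero (K.isZero_of_isStrictlyGE a n (by omega))))

theorem exists_resolution : ∃ (I : CochainComplex (FilD.FilF A) ℤ) (φ : K ⟶ I), I.IsStrictlyGE a ∧
    (∀ n, FilD.IsFilteredInjective (I.X n)) ∧ FilD.IsFilteredQuasiIso φ :=
  ⟨res K a, aug K a, inferInstance, injective_res K a, isFilteredQuasiIso_aug K a⟩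

end Main

end Groth.Agent.FilDLib
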