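import Mathlib
import Groth.Agent.FilDLib.Resolution

/-!
The horseshoe lemma for filtered injective resolutions.
-/

set_option autoImplicit false

universe v u

open CategoryTheory CategoryTheory.Limits Opposite

namespace Groth.Agent.FilDLib

variable {A : Type u} [Category.{v} A] [Abelian A]

/-- A levelwise short exact sequence of finite filtered objects has short exact graded pieces. -/
theorem gr_of_levelwise (S : ShortComplex (FilD.FilF A))
    (hS : ∀ p : ℤ, (S.map ((FilD.IsFinFil A).ι ⋙ (evaluation ℤᵒᵖ A).obj (op p))).ShortExact) :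
    (∀ p : ℤ, Mono ((FilD.gr A p).map S.f.hom)) ∧
    (∀ (p : ℤ) {W : A} (y : W ⟶ (FilD.grF A p).obj S.X₂), y ≫ (FilD.grF A p).map S.g = 0 →
      ∃ (W' : A) (e : W' ⟶ W) (_ : Epi e) (z : W' ⟶ (FilD.grF A p).obj S.X₁), e ≫ y = z ≫ (FilD.grF A p).map S.f) ∧
    Epi S.g := by
  have w : S.f.hom ≫ S.g.hom = 0 := by rw [← ObjectProperty.FullSubcategory.comp_hom, S.zero]; rfl
  have hm : ∀ q : ℤᵒᵖ, Mono (S.f.hom.app q) := fun q => (hS q.unop).mono_f
  have he : ∀ q : ℤᵒᵖ, Epi (S.g.hom.app q) := fun q => (hS q.unop).epi_g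
  have : Mono S.f.hom := NatTrans.mono_of_mono_app _
  have : Epi S.g.hom := NatTrans.epi_of_epi_app _
  have : Mono S.f := (FilD.IsFinFil A).ι.mono_of_mono_map (f := S.f) ‹_›
  have hex : (ShortComplex.mk S.f.hom S.g.hom w).Exact := exact_of_forall_app _ fun p => (hS p).exact
  have hstr : FilD.IsStrict S.f := (isStrict_iff _).2 fun p q h W z y hyz => by
    have : Mono (S.X₃.obj.map (homOfLE h).op) := S.X₃.property.1 _
    have hz : z ≫ S.g.hom.app (op q) = 0 := by
      rw [← cancel_mono (S.X₃.obj.map (homOfLE h).op), zero_comp, Category.assoc, ← S.g.hom.naturality,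
        ← Category.assoc, ← hyz, Category.assoc, ← NatTrans.comp_app, w, zero_app, comp_zero]
    obtain ⟨W', π, hπ, y', hy'⟩ := (hS q).exact.exact_up_to_refinements z hz
    exact ⟨W', π, hπ, y', hy'⟩
  exact ⟨fun p => mono_gr S.f hstr p, fun p W y hy => (gr_cokernel S.f S.g w ‹_› hex p).1 y hy,
    (FilD.IsFinFil A).ι.epi_of_epi_map (f := S.g) ‹_›⟩

variable {Z : FilD.FilF A} {J : CochainComplex (FilD.FilF A) ℤ}
  (c : (CochainComplex.singleFunctor (FilD.FilF A) 0).obj Z ⟶ J)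

theorem single_d (i j : ℤ) : ((CochainComplex.singleFunctor (FilD.FilF A) 0).obj Z).d i j = 0 := rfl

theorem c_d (j k : ℤ) : c.f j ≫ J.d j k = 0 := by
  rw [c.comm, single_d, zero_comp]

variable (hc : FilD.IsFilteredQuasiIso c)

include hc in
theorem mono_gr_c (p : ℤ) [J.IsStrictlyGE 0] : Mono ((FilD.grF A p).map (c.f 0)) := by
  refine Preadditive.mono_of_cancel_zero _ fun {W} x hx => ?_
  have := hc p
  have hm : Mono (HomologicalComplex.homologyMap ((FilD.grCx p).map c) 0) := inferInstance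
  rw [HomologicalComplex.mono_homologyMap_iff_up_to_refinements _ (-1) 0 1 (CochainComplex.prev ℤ 0) (CochainComplex.next ℤ 0)] at hm
  have hd : ∀ i j : ℤ, (FilD.grF A p).map (((CochainComplex.singleFunctor (FilD.FilF A) 0).obj Z).d i j) = 0 := fun i j => by
    rw [single_d, Functor.map_zero]
  obtain ⟨W', e, he, x₁, h⟩ := hm x ((congrArg (fun t => x ≫ t) (hd 0 1)).trans comp_zero) 0 (hx.trans zero_comp.symm)
  exact (cancel_epi e).1 ((h.trans ((congrArg (fun t => x₁ ≫ t) (hd (-1) 0)).trans comp_zero)).trans comp_zero.symm)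

include hc in
/-- Extension along the differential of a resolution. -/
theorem exists_ext_d {I : FilD.FilF A} (hI : FilD.IsFilteredInjective I) {i j k : ℤ} (hij : i + 1 = j) (hjk : j + 1 = k)
    (ψ : J.X j ⟶ I) (h₁ : c.f j ≫ ψ = 0) (h₂ : J.d i j ≫ ψ = 0) : ∃ h : J.X k ⟶ I, J.d j k ≫ h = ψ := by
  let B := bipBicone (((CochainComplex.singleFunctor (FilD.FilF A) 0).obj Z).X j) (J.X i)
  let f : B.pt ⟶ J.X j := B.fst ≫ c.f j + B.snd ≫ J.d i j
  have hw : f ≫ J.d j k = 0 := by
    simp only [f, Preadditive.add_comp, Category.assoc, c_d, J.d_comp_d, comp_zero, add_zero]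
  have hψ : f ≫ ψ = 0 := by
    simp only [f, Preadditive.add_comp, Category.assoc, h₁, h₂, comp_zero, add_zero]
  refine exists_extendF f.hom (J.d j k) ?_ (fun p => ?_) hI ψ ?_
  · rw [← ObjectProperty.FullSubcategory.comp_hom, hw]; rfl
  · refine (ShortComplex.exact_iff_exact_up_to_refinements _).2 fun W y hy => ?_
    let G := FilD.grF A p
    have := hc p
    have he : Epi (HomologicalComplex.homologyMap ((FilD.grCx p).map c) j) := inferInstance
    rw [HomologicalComplex.epi_homologyMap_iff_up_to_refinements _ i j k ((CochainComplex.prev ℤ j).trans (by omega))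
      ((CochainComplex.next ℤ j).trans hjk)] at he
    obtain ⟨W', e, hee, x, -, w, h⟩ := he y hy
    refine ⟨W', e, hee, (x : W' ⟶ G.obj _) ≫ G.map B.inl + (w : W' ⟶ G.obj _) ≫ G.map B.inr, ?_⟩
    refine h.trans ?_
    have key : ∀ (x : W' ⟶ G.obj (((CochainComplex.singleFunctor (FilD.FilF A) 0).obj Z).X j)) (w : W' ⟶ G.obj (J.X i)),
        x ≫ G.map (c.f j) + w ≫ G.map (J.d i j) = (x ≫ G.map B.inl + w ≫ G.map B.inr) ≫ G.map f := fun x w => by
      simp only [Preadditive.add_comp, Category.assoc, ← Functor.map_comp, f, Preadditive.comp_add,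
        BinaryBicone.inl_fst_assoc, BinaryBicone.inl_snd_assoc, BinaryBicone.inr_fst_assoc, BinaryBicone.inr_snd_assoc,
        zero_comp, add_zero, zero_add]
    exact key x w
  · rw [← ObjectProperty.FullSubcategory.comp_hom, hψ]; rfl

variable (I : CochainComplex (FilD.FilF A) ℤ) (hI : ∀ n, FilD.IsFilteredInjective (I.X n))

/-- Twisting maps. -/
abbrev Tw (j k : ℤ) :=
  {τ : J.X j ⟶ I.X k // (∀ i, J.d i j ≫ τ ≫ I.d k (k + 1) = 0) ∧ c.f j ≫ τ ≫ I.d k (k + 1) = 0}

include hc hI in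
theorem exists_tw_next {j k l : ℤ} (hjk : j + 1 = k) (hkl : k + 1 = l) (hk : k ≠ 0) (τ : Tw c I j k) :
    ∃ τ' : Tw c I k l, J.d j k ≫ τ'.1 + τ.1 ≫ I.d k l = 0 := by
  subst hjk hkl
  obtain ⟨h, hh⟩ := exists_ext_d c hc (hI (j + 1 + 1)) (sub_add_cancel j 1) rfl (-(τ.1 ≫ I.d (j + 1) (j + 1 + 1)))
    (by rw [Preadditive.comp_neg, τ.2.2, neg_zero]) (by rw [Preadditive.comp_neg, τ.2.1, neg_zero])
  refine ⟨⟨h, fun i => ?_, (HomologicalComplex.isZero_single_obj_X (ComplexShape.up ℤ) (0 : ℤ) Z (j + 1) hk).eq_of_src _ _⟩, ?_⟩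
  · by_cases hi : i + 1 = j + 1
    · obtain rfl : i = j := by omega
      rw [← Category.assoc, hh, Preadditive.neg_comp, Category.assoc, I.d_comp_d, comp_zero, neg_zero]
    · rw [J.shape _ _ hi, zero_comp]
  · rw [hh, neg_add_cancel]

variable [J.IsStrictlyGE 0] (τ₀ : Tw c I 0 1)

include hc hI in
/-- The twisting maps in all degrees. -/
noncomputable def tw (k : ℤ) : ∀ l : ℤ, k + 1 = l → Tw c I k l :=
  if h : k < 0 then fun l _ => ⟨0, fun i => by rw [zero_comp, comp_zero], by rw [zero_comp, comp_zero]⟩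
  else if h' : k = 0 then fun l hl =>
    cast (by subst h'; obtain rfl : l = 1 := (by omega); rfl) τ₀
  else fun l hl => (exists_tw_next c hc I hI (sub_add_cancel k 1) hl h' (tw (k - 1) k (sub_add_cancel k 1))).choose
termination_by k.toNat
decreasing_by omega

theorem tw_zero : tw c hc I hI τ₀ 0 1 rfl = τ₀ := by
  rw [tw.eq_def, dif_neg (lt_irrefl (0 : ℤ)), dif_pos rfl]
  rfl

theorem tw_spec (i j k : ℤ) (hij : i + 1 = j) (hjk : j + 1 = k) :
    J.d i j ≫ (tw c hc I hI τ₀ j k hjk).1 + (tw c hc I hI τ₀ i j hij).1 ≫ I.d j k = 0 := by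
  by_cases hi : i < 0
  · exact (J.isZero_of_isStrictlyGE 0 i hi).eq_of_src _ _
  · obtain rfl : i = j - 1 := by omega
    conv_lhs => arg 1; arg 2; rw [tw.eq_def, dif_neg (show ¬ j < 0 by omega), dif_neg (show j ≠ 0 by omega)]
    exact (exists_tw_next c hc I hI hij hjk (show j ≠ 0 by omega) (tw c hc I hI τ₀ (j - 1) j hij)).choose_spec

/-- The twisting maps, as a family over all pairs of degrees. -/
noncomputable def twM (i j : ℤ) : J.X i ⟶ I.X j :=
  if h : i + 1 = j then (tw c hc I hI τ₀ i j h).1 else 0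

theorem twM_spec (i j k : ℤ) (hij : i + 1 = j) (hjk : j + 1 = k) :
    J.d i j ≫ twM c hc I hI τ₀ j k + twM c hc I hI τ₀ i j ≫ I.d j k = 0 := by
  rw [twM, twM, dif_pos hjk, dif_pos hij]
  exact tw_spec c hc I hI τ₀ i j k hij hjk

/-- The extension of the complexes. -/
noncomputable abbrev extCx : CochainComplex (FilD.FilF A) ℤ where
  X n := (bipBicone (I.X n) (J.X n)).pt
  d i j := (bipBicone (I.X i) (J.X i)).fst ≫ I.d i j ≫ (bipBicone (I.X j) (J.X j)).inl +
    (bipBicone (I.X i) (J.X i)).snd ≫ twM c hc I hI τ₀ i j ≫ (bipBicone (I.X j) (J.X j)).inl +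
    (bipBicone (I.X i) (J.X i)).snd ≫ J.d i j ≫ (bipBicone (I.X j) (J.X j)).inr
  shape i j h := by
    rw [I.shape i j h, J.shape i j h, twM, dif_neg (show ¬ i + 1 = j from h)]
    simp
  d_comp_d' i j k hij hjk := by
    simp only [Preadditive.add_comp, Preadditive.comp_add, Category.assoc, BinaryBicone.inl_fst_assoc,
      BinaryBicone.inl_snd_assoc, BinaryBicone.inr_fst_assoc, BinaryBicone.inr_snd_assoc, zero_comp, comp_zero,
      add_zero, zero_add]
    rw [← Category.assoc (I.d i j), I.d_comp_d, ← Category.assoc (J.d i j) (J.d j k), J.d_comp_d]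
    simp only [zero_comp, comp_zero, zero_add, add_zero]
    rw [← Preadditive.comp_add, ← Category.assoc (twM c hc I hI τ₀ i j), ← Category.assoc (J.d i j),
      ← Preadditive.add_comp, add_comm, twM_spec c hc I hI τ₀ i j k hij hjk, zero_comp, comp_zero]

omit hc hI in
theorem exists_horseshoe (S : ShortComplex (FilD.FilF A))
    (hS : ∀ p : ℤ, (S.map ((FilD.IsFinFil A).ι ⋙ (evaluation ℤᵒᵖ A).obj (op p))).ShortExact)
    (I : CochainComplex (FilD.FilF A) ℤ) (hI : ∀ n, FilD.IsFilteredInjective (I.X n))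
    (a : (CochainComplex.singleFunctor (FilD.FilF A) 0).obj S.X₁ ⟶ I)
    (J : CochainComplex (FilD.FilF A) ℤ) [J.IsStrictlyGE 0]
    (c : (CochainComplex.singleFunctor (FilD.FilF A) 0).obj S.X₃ ⟶ J) (hc : FilD.IsFilteredQuasiIso c) :
    ∃ (M : CochainComplex (FilD.FilF A) ℤ) (α : I ⟶ M) (β : M ⟶ J)
      (b : (CochainComplex.singleFunctor (FilD.FilF A) 0).obj S.X₂ ⟶ M),
      (∀ n, ∃ (r : M.X n ⟶ I.X n) (s : J.X n ⟶ M.X n), α.f n ≫ r = 𝟙 _ ∧ s ≫ β.f n = 𝟙 _ ∧ α.f n ≫ β.f n = 0 ∧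
        r ≫ α.f n + β.f n ≫ s = 𝟙 _) ∧
      a ≫ α = (CochainComplex.singleFunctor (FilD.FilF A) 0).map S.f ≫ b ∧
      b ≫ β = (CochainComplex.singleFunctor (FilD.FilF A) 0).map S.g ≫ c := by
  let sf := CochainComplex.singleFunctor (FilD.FilF A) 0
  let ε : ∀ T : FilD.FilF A, (sf.obj T).X 0 ≅ T := fun T => HomologicalComplex.singleObjXSelf (ComplexShape.up ℤ) 0 T
  let a₀ : S.X₁ ⟶ I.X 0 := (ε S.X₁).inv ≫ a.f 0
  let c₀ : S.X₃ ⟶ J.X 0 := (ε S.X₃).inv ≫ c.f 0
  obtain ⟨hmono, hex, hepi⟩ := gr_of_levelwise S hS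
  obtain ⟨b₀, hb₀⟩ := exists_extend_of_mono S.f hmono (hI 0) a₀
  have had : a₀ ≫ I.d 0 1 = 0 := by rw [Category.assoc, c_d a, comp_zero]
  have hcd : ∀ k, c₀ ≫ J.d 0 k = 0 := fun k => by rw [Category.assoc, c_d c, comp_zero]
  have hfb : S.f ≫ b₀ ≫ I.d 0 1 = 0 := by rw [← Category.assoc, hb₀, had]
  obtain ⟨w, hw⟩ := exists_extendF S.f.hom S.g (by rw [← ObjectProperty.FullSubcategory.comp_hom, S.zero]; rfl)
    (fun p => (ShortComplex.exact_iff_exact_up_to_refinements _).2 fun W y hy => hex p y hy) (hI 1) (b₀ ≫ I.d 0 1)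
    (by rw [← ObjectProperty.FullSubcategory.comp_hom, hfb]; rfl)
  have hwd : w ≫ I.d 1 (1 + 1) = 0 := by
    rw [← cancel_epi S.g, ← Category.assoc, hw, Category.assoc, I.d_comp_d, comp_zero, comp_zero]
  have hc₀ : ∀ p : ℤ, Mono ((FilD.gr A p).map c₀.hom) := fun p => by
    have := mono_gr_c c hc p
    change Mono ((FilD.grF A p).map ((ε S.X₃).inv ≫ c.f 0))
    rw [Functor.map_comp]
    infer_instance
  obtain ⟨t, ht⟩ := exists_extend_of_mono c₀ hc₀ (hI 1) (-w)
  have ht' : c.f 0 = (ε S.X₃).hom ≫ c₀ := by simp [c₀]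
  let τ₀ : Tw c I 0 1 := ⟨t,
    fun i => by
      by_cases hi : i + 1 = 0
      · exact (J.isZero_of_isStrictlyGE 0 i (by omega)).eq_of_src _ _
      · rw [J.shape _ _ hi, zero_comp],
    by rw [ht', Category.assoc, ← Category.assoc c₀, ht, Preadditive.neg_comp, hwd, neg_zero, comp_zero]⟩
  have htw : twM c hc I hI τ₀ 0 1 = t := by
    rw [twM, dif_pos (show (0 : ℤ) + 1 = 1 from rfl), tw_zero]
  let B := fun n => bipBicone (I.X n) (J.X n)
  let M := extCx c hc I hI τ₀
  let α : I ⟶ M :=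
    { f := fun n => (B n).inl
      comm' := fun i j _ => by simp [M, B] }
  let β : M ⟶ J :=
    { f := fun n => (B n).snd
      comm' := fun i j _ => by simp [M, B] }
  let bb : S.X₂ ⟶ M.X 0 := b₀ ≫ (B 0).inl + (S.g ≫ c₀) ≫ (B 0).inr
  have hbb : ∀ k, (ComplexShape.up ℤ).Rel 0 k → bb ≫ M.d 0 k = 0 := by
    intro k hk
    obtain rfl : 1 = k := hk
    simp only [bb, M, B, Preadditive.add_comp, Preadditive.comp_add, Category.assoc, BinaryBicone.inl_fst_assoc,
      BinaryBicone.inl_snd_assoc, BinaryBicone.inr_fst_assoc, BinaryBicone.inr_snd_assoc, zero_comp, comp_zero,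
      add_zero, zero_add, htw]
    rw [← Category.assoc c₀ (J.d 0 1), hcd, zero_comp, comp_zero, add_zero, ← Category.assoc b₀, ← Category.assoc c₀,
      ht, ← hw, Category.assoc, ← Preadditive.comp_add, ← Preadditive.add_comp, add_neg_cancel, zero_comp, comp_zero]
  let b : sf.obj S.X₂ ⟶ M := HomologicalComplex.mkHomFromSingle bb hbb
  refine ⟨M, α, β, b, fun n => ⟨(B n).fst, (B n).inr, (B n).inl_fst, (B n).inr_snd, (B n).inl_snd, bip_total' _ _⟩, ?_, ?_⟩
  · refine HomologicalComplex.from_single_hom_ext ?_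
    rw [HomologicalComplex.comp_f, HomologicalComplex.comp_f]
    change a.f 0 ≫ (B 0).inl = ((HomologicalComplex.single _ (ComplexShape.up ℤ) 0).map S.f).f 0 ≫
      (HomologicalComplex.mkHomFromSingle bb hbb).f 0
    rw [HomologicalComplex.mkHomFromSingle_f, HomologicalComplex.single_map_f_self]
    have h : a.f 0 = (ε S.X₁).hom ≫ a₀ := by simp [a₀]
    rw [h]
    simp only [bb, ε, Preadditive.comp_add, Category.assoc, Iso.inv_hom_id_assoc]
    rw [← Category.assoc S.f b₀, hb₀, ← Category.assoc S.f S.g, S.zero, zero_comp, comp_zero, add_zero]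
    rfl
  · refine HomologicalComplex.from_single_hom_ext ?_
    rw [HomologicalComplex.comp_f, HomologicalComplex.comp_f]
    change (HomologicalComplex.mkHomFromSingle bb hbb).f 0 ≫ (B 0).snd =
      ((HomologicalComplex.single _ (ComplexShape.up ℤ) 0).map S.g).f 0 ≫ c.f 0
    rw [HomologicalComplex.mkHomFromSingle_f, HomologicalComplex.single_map_f_self]
    simp only [bb, ε, c₀, B, Preadditive.comp_add, Preadditive.add_comp, Category.assoc, BinaryBicone.inl_snd,
      BinaryBicone.inr_snd, comp_zero, zero_add, Category.comp_id]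
    repeat' erw [Category.assoc]
    all_goals rfl
where
  bip_total' (X Y : FilD.FilF A) :
      (bipBicone X Y).fst ≫ (bipBicone X Y).inl + (bipBicone X Y).snd ≫ (bipBicone X Y).inr = 𝟙 _ := by
    ext q
    exact biprod.total

end Groth.Agent.FilDLib
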