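import Mathlib
import Groth.Agent.FilDLib.Resolution

/-!
Resolutions with strictly monomorphic components.
-/

set_option autoImplicit false

universe v u

open CategoryTheory CategoryTheory.Limits Opposite

namespace Groth.Agent.FilDLib

variable {A : Type u} [Category.{v} A] [Abelian A]

theorem bip_total (X Y : FilD.FilF A) :
    (bipBicone X Y).fst ≫ (bipBicone X Y).inl + (bipBicone X Y).snd ≫ (bipBicone X Y).inr = 𝟙 _ := by
  ext q
  exact biprod.total

theorem injective_bip {X Y : FilD.FilF A} (hX : FilD.IsFilteredInjective X) (hY : FilD.IsFilteredInjective Y) :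
    FilD.IsFilteredInjective (bipBicone X Y).pt := by
  intro p
  have := hX p
  have := hY p
  let G := FilD.grF A p
  refine ⟨fun {U V} g f _ => ⟨Injective.factorThru (g ≫ G.map (bipBicone X Y).fst) f ≫ G.map (bipBicone X Y).inl +
    Injective.factorThru (g ≫ G.map (bipBicone X Y).snd) f ≫ G.map (bipBicone X Y).inr, ?_⟩⟩
  rw [Preadditive.comp_add, Injective.comp_factorThru_assoc, Injective.comp_factorThru_assoc]
  simp only [Category.assoc, ← Functor.map_comp, ← Preadditive.comp_add, ← Functor.map_add, bip_total,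
    CategoryTheory.Functor.map_id]
  exact Category.comp_id _

theorem isZero_bip {X Y : FilD.FilF A} (hX : IsZero X) (hY : IsZero Y) : IsZero (bipBicone X Y).pt := by
  rw [IsZero.iff_id_eq_zero, ← bip_total, hX.eq_of_tgt (bipBicone X Y).fst 0, hY.eq_of_tgt (bipBicone X Y).snd 0]
  simp

section Disc

variable (J : ℤ → FilD.FilF A)

/-- The contractible complex with terms `J n ⊕ J (n+1)`. -/
noncomputable abbrev disc : CochainComplex (FilD.FilF A) ℤ where
  X n := (bipBicone (J n) (J (n + 1))).pt
  d i j := if h : i + 1 = j then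
    (bipBicone (J i) (J (i + 1))).snd ≫ eqToHom (congrArg J h) ≫ (bipBicone (J j) (J (j + 1))).inl else 0
  shape i j h := dif_neg h
  d_comp_d' i j k hij hjk := by
    obtain rfl : i + 1 = j := hij
    obtain rfl : i + 1 + 1 = k := hjk
    simp

theorem disc_d (i : ℤ) : (disc J).d i (i + 1) =
    (bipBicone (J i) (J (i + 1))).snd ≫ (bipBicone (J (i + 1)) (J (i + 1 + 1))).inl := by
  simp [disc]

/-- The contraction of `disc J`. -/
noncomputable def discH (i j : ℤ) : (disc J).X i ⟶ (disc J).X j :=
  if h : j + 1 = i then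
    (bipBicone (J i) (J (i + 1))).fst ≫ eqToHom (congrArg J h.symm) ≫ (bipBicone (J j) (J (j + 1))).inr else 0

theorem discH_add (i j k : ℤ) (hij : i + 1 = j) (hjk : j + 1 = k) :
    (disc J).d j k ≫ discH J k j + discH J j i ≫ (disc J).d i j = 𝟙 ((disc J).X j) := by
  subst hij hjk
  rw [disc_d, disc_d]
  unfold discH
  rw [dif_pos rfl, dif_pos rfl]
  simp only [eqToHom_refl, Category.id_comp]
  change ((bipBicone (J (i + 1)) (J (i + 1 + 1))).snd ≫ (bipBicone (J (i + 1 + 1)) (J (i + 1 + 1 + 1))).inl) ≫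
      (bipBicone (J (i + 1 + 1)) (J (i + 1 + 1 + 1))).fst ≫ (bipBicone (J (i + 1)) (J (i + 1 + 1))).inr +
    ((bipBicone (J (i + 1)) (J (i + 1 + 1))).fst ≫ (bipBicone (J i) (J (i + 1))).inr) ≫
      (bipBicone (J i) (J (i + 1))).snd ≫ (bipBicone (J (i + 1)) (J (i + 1 + 1))).inl = 𝟙 _
  simp only [Category.assoc, BinaryBicone.inl_fst_assoc, BinaryBicone.inr_snd_assoc]
  exact (add_comm _ _).trans (bip_total _ _)

theorem nonempty_contraction : Nonempty (Homotopy (𝟙 (disc J)) 0) :=
  ⟨{ hom := discH J
     zero := fun i j h => dif_neg h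
     comm := fun n => by
      rw [dNext_eq _ (show (ComplexShape.up ℤ).Rel n (n + 1) from rfl),
        prevD_eq _ (show (ComplexShape.up ℤ).Rel (n - 1) n from sub_add_cancel n 1), HomologicalComplex.zero_f, add_zero]
      exact (discH_add J (n - 1) n (n + 1) (sub_add_cancel n 1) rfl).symm }⟩

variable {J} {K : CochainComplex (FilD.FilF A) ℤ} (u : ∀ n, K.X n ⟶ J n)

/-- The map into the contractible complex. -/
noncomputable def discMap : K ⟶ disc J where
  f n := u n ≫ (bipBicone (J n) (J (n + 1))).inl + K.d n (n + 1) ≫ u (n + 1) ≫ (bipBicone (J n) (J (n + 1))).inr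
  comm' i j h := by
    obtain rfl : i + 1 = j := h
    rw [disc_d]
    simp only [Preadditive.comp_add, Preadditive.add_comp, Category.assoc]
    rw [← Category.assoc (bipBicone (J i) (J (i + 1))).inl, BinaryBicone.inl_snd, zero_comp, comp_zero, zero_add,
      ← Category.assoc (bipBicone (J i) (J (i + 1))).inr, BinaryBicone.inr_snd, Category.id_comp,
      ← Category.assoc (K.d i (i + 1)) (K.d (i + 1) (i + 1 + 1)), K.d_comp_d, zero_comp, add_zero]

theorem discMap_fst (n : ℤ) : (discMap u).f n ≫ (bipBicone (J n) (J (n + 1))).fst = u n := by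
  simp [discMap]

end Disc

section Sum

variable (I D : CochainComplex (FilD.FilF A) ℤ)

/-- Term-wise biproduct of complexes. -/
noncomputable abbrev sumCx : CochainComplex (FilD.FilF A) ℤ where
  X n := (bipBicone (I.X n) (D.X n)).pt
  d i j := (bipBicone (I.X i) (D.X i)).fst ≫ I.d i j ≫ (bipBicone (I.X j) (D.X j)).inl +
    (bipBicone (I.X i) (D.X i)).snd ≫ D.d i j ≫ (bipBicone (I.X j) (D.X j)).inr
  shape i j h := by rw [I.shape i j h, D.shape i j h]; simp
  d_comp_d' i j k _ _ := by simp

/-- First projection. -/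
noncomputable def sumFst : sumCx I D ⟶ I where
  f n := (bipBicone (I.X n) (D.X n)).fst
  comm' i j _ := by simp [sumCx]

/-- Second projection. -/
noncomputable def sumSnd : sumCx I D ⟶ D where
  f n := (bipBicone (I.X n) (D.X n)).snd
  comm' i j _ := by simp [sumCx]

/-- First inclusion. -/
noncomputable def sumInl : I ⟶ sumCx I D where
  f n := (bipBicone (I.X n) (D.X n)).inl
  comm' i j _ := by simp [sumCx]

/-- Second inclusion. -/
noncomputable def sumInr : D ⟶ sumCx I D where
  f n := (bipBicone (I.X n) (D.X n)).inr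
  comm' i j _ := by simp [sumCx]

theorem sum_total : sumFst I D ≫ sumInl I D + sumSnd I D ≫ sumInr I D = 𝟙 _ := by
  ext1 n
  exact bip_total _ _

theorem isFilteredQuasiIso_sumFst (hD : Nonempty (Homotopy (𝟙 D) 0)) : FilD.IsFilteredQuasiIso (sumFst I D) := by
  obtain ⟨H⟩ := hD
  have h₀ : Homotopy (sumSnd I D ≫ sumInr I D) 0 :=
    (((H.compLeft (sumSnd I D)).compRight (sumInr I D)).trans (Homotopy.ofEq (by simp))) |>
      fun h => (Homotopy.ofEq (by simp)).trans h
  let e : HomotopyEquiv (sumCx I D) I :=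
    { hom := sumFst I D
      inv := sumInl I D
      homotopyHomInvId := ((Homotopy.ofEq (show sumFst I D ≫ sumInl I D = sumFst I D ≫ sumInl I D + 0 from (add_zero _).symm)).trans
        ((Homotopy.refl _).add h₀.symm)).trans (Homotopy.ofEq (sum_total I D))
      homotopyInvHomId := Homotopy.ofEq (by ext1 n; exact BinaryBicone.inl_fst _) }
  intro p
  exact inferInstanceAs (QuasiIso ((FilD.grF A p).mapHomotopyEquiv e).hom)

end Sum

theorem exists_strict_resolution [EnoughInjectives A] (K : CochainComplex (FilD.FilF A) ℤ) (a : ℤ) [K.IsStrictlyGE a] :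
    ∃ (I : CochainComplex (FilD.FilF A) ℤ) (a' : ℤ) (φ : K ⟶ I), I.IsStrictlyGE a' ∧
      (∀ n, FilD.IsFilteredInjective (I.X n)) ∧ FilD.IsFilteredQuasiIso φ ∧ ∀ n, Mono (φ.f n) ∧ FilD.IsStrict (φ.f n) := by
  obtain ⟨I, φ, hI, hinj, hqis⟩ := exists_resolution K a
  let J : ℤ → FilD.FilF A := fun n => embI (K.X n)
  let u : ∀ n, K.X n ⟶ J n := fun n => embU (K.X n)
  let φ' : K ⟶ sumCx I (disc J) := φ ≫ sumInl _ _ + discMap u ≫ sumInr _ _
  have hfst : φ' ≫ sumFst _ _ = φ := by
    ext1 n
    simp [φ', sumInl, sumInr, sumFst]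
  refine ⟨sumCx I (disc J), a - 1, φ', (CochainComplex.isStrictlyGE_iff _ _).2 fun n hn => ?_,
    fun n => injective_bip (hinj n) (injective_bip (embI_injective _) (embI_injective _)), fun p => ?_, fun n => ?_⟩
  · exact isZero_bip (I.isZero_of_isStrictlyGE a n (by omega))
      (isZero_bip (isZero_embI _ (K.isZero_of_isStrictlyGE a n (by omega))) (isZero_embI _ (K.isZero_of_isStrictlyGE a (n + 1) (by omega))))
  · have := hqis p
    have := isFilteredQuasiIso_sumFst I (disc J) (nonempty_contraction J) p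
    have h : QuasiIso ((FilD.grCx p).map φ' ≫ (FilD.grCx p).map (sumFst I (disc J))) := by
      rw [← Functor.map_comp, hfst]; infer_instance
    exact quasiIso_of_comp_right _ ((FilD.grCx p).map (sumFst I (disc J)))
  · have h : ∀ p : ℤ, Mono ((FilD.gr A p).map (φ'.f n).hom) := by
      intro p
      have := mono_embU (K.X n) p
      have h2 : Mono ((FilD.grF A p).map (φ'.f n) ≫
          (FilD.grF A p).map ((bipBicone (I.X n) ((disc J).X n)).snd ≫ (bipBicone (J n) (J (n + 1))).fst)) := by
        rw [← Functor.map_comp]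
        have h3 : φ'.f n ≫ (bipBicone (I.X n) ((disc J).X n)).snd ≫ (bipBicone (J n) (J (n + 1))).fst = u n := by
          rw [← Category.assoc]
          have h4 : φ'.f n ≫ (bipBicone (I.X n) ((disc J).X n)).snd = (discMap u).f n := by
            simp [φ', sumInl, sumInr]
          rw [h4, discMap_fst]
        exact h3 ▸ this
      exact mono_of_mono ((FilD.grF A p).map (φ'.f n))
        ((FilD.grF A p).map ((bipBicone (I.X n) ((disc J).X n)).snd ≫ (bipBicone (J n) (J (n + 1))).fst))
    exact ⟨(exact_app_of_mono_gr _ h).1, (exact_app_of_mono_gr _ h).2.1⟩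

end Groth.Agent.FilDLib
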